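import Cfsg.Agent.H162.GaussMain
import Cfsg.Agent.H162.GaussSL
import Cfsg.Agent.H162.GaussExcMain
import Cfsg.Agent.Lib.FinFast
import Cfsg.Agent.H134.Sq.Base_m3
import Cfsg.Agent.S1054
import Cfsg.Agent.ChevalleyStructure.FieldIso
import Cfsg.Agent.H85.Ore.Phi_mg_m3
import Cfsg.Agent.H130.WeylTab
import Cfsg.Agent.FourTwo.BN
import Cfsg.Agent.KFacts.RgdChevCoord
import Cfsg.Agent.LieClassical.SLGen
import Cfsg.Agent.OddHalf.NI.ModelChev
import Cfsg.Agent.H928.Ore.TwS_m3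
import Cfsg.Agent.FastGrp
import Cfsg.Agent.Prune
set_option linter.all false

section
prune_inst 0x7ffdfdfbffb8cfffdfff7e7ffed7dffdf8ffdfffa6dffdcb7fe8e1ffabdf6b08e9e56b858de052ff1ef6e2bc10ba7b53fbffffffea6ffc7ffffdfff41ffbee4fe5f6b508719e8cb40fbc0fff03f07fce7f3fffffffffffffffffffffffffffbeffffffffffff

-- part: H584/Ore/Build
section
prune_inst 0x530002000018000280000010000004920023000050400040014a71202903a70130400a1000102a500000000000000040000000000000040000010100108800001100010022000e009000000000000000000000000000000000041000000000000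
set_option linter.all false
open scoped Cfsg.Agent.FastGrp

-- part: H584/Ore/Engine
section
/-!
# The engine of the exceptional half of Ore's conjecture (S2443) and of S4171

* `two_class` : if every `v u` (`v ∈ U_J⁻`, `u ∈ U_J`, with a side condition `Q v u` which can be reached by conjugation)
  is a product `c₁ c₂` of elements of `L_J`, `c₁` without fixed points on `V_J⁻`, `c₂` without fixed points on `V_J`,
  then every element outside the core of `B` is `(x c₁ x⁻¹) (y c₂ y⁻¹)`.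
* `ore` : Ore form.
* `Parity` : the side condition "`v` and `u` have both trivial or both nontrivial component in `X_{-k}`, `X_k`".
-/

set_option autoImplicit false
set_option linter.unusedSectionVars false

namespace Cfsg.Agent.H584.Ore.Engine

open CoxeterSystem Cfsg.Agent.ChevalleyStructure.CoxeterGeom Cfsg.Agent.Tits.Roots Cfsg.Agent.Tits.Core
  Cfsg.Agent.Nodes.Reps
  Cfsg.Agent.Nodes.BNOf Cfsg.Agent.Nodes.StabComb
  Cfsg.Agent.Nodes.RGDLib Cfsg.Agent.Nodes.Bruhat Cfsg.Agent.Nodes.OppDec Cfsg.Agent.Nodes.LeviDec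
  Cfsg.Agent.OddHalf.NI.Mult
  Cfsg.Agent.H162.GaussDec Cfsg.Agent.H162.GaussLevi

variable {I W Y : Type*} [Fintype I] [DecidableEq I] [Group W] [Group Y] {M : CoxeterMatrix I}
  {cs : CoxeterSystem M W} {A : I → I → ℤ} {h : IsCartan M A} {p : ℕ} {T : Subgroup Y} {n : I → Y}
  {X : (I → ℤ) → Subgroup Y}

/-- `c` lies in the Levi subgroup and has no fixed points on the unipotent radical `V_J` -/
structure Pos (cs : CoxeterSystem M W) (h : IsCartan M A) (T : Subgroup Y) (X : (I → ℤ) → Subgroup Y) (J : Set I)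
    (c : Y) : Prop where
  mem : c ∈ LJ cs h T X J
  fix : ∀ x ∈ VJ cs h X J, c * x * c⁻¹ = x → x = 1

/-- `c` lies in the Levi subgroup and has no fixed points on the opposite unipotent radical `V_J⁻` -/
structure Neg (cs : CoxeterSystem M W) (h : IsCartan M A) (T : Subgroup Y) (X : (I → ℤ) → Subgroup Y) (J : Set I)
    (c : Y) : Prop where
  mem : c ∈ LJ cs h T X J
  fix : ∀ x ∈ VNJ cs h X J, c * x * c⁻¹ = x → x = 1

section basic

theorem fix_conj {V : Subgroup Y} {c k : Y} (hk : k ∈ Subgroup.normalizer (V : Set Y))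
    (hf : ∀ x ∈ V, c * x * c⁻¹ = x → x = 1) : ∀ x ∈ V, (k * c * k⁻¹) * x * (k * c * k⁻¹)⁻¹ = x → x = 1 := by
  intro x hx hcx
  have h1 : k⁻¹ * x * k ∈ V := by
    have h2 := (Subgroup.mem_normalizer_iff.1 (inv_mem hk) x).1 hx
    rwa [inv_inv] at h2
  have h2 : k⁻¹ * x * k = 1 := by
    refine hf _ h1 ?_
    calc c * (k⁻¹ * x * k) * c⁻¹ = k⁻¹ * ((k * c * k⁻¹) * x * (k * c * k⁻¹)⁻¹) * k := by group
      _ = _ := by rw [hcx]
  have h3 : x = k * (k⁻¹ * x * k) * k⁻¹ := by group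
  rw [h3, h2, mul_one, mul_inv_cancel]

theorem fix_inv {V : Subgroup Y} {c : Y} (hf : ∀ x ∈ V, c * x * c⁻¹ = x → x = 1) :
    ∀ x ∈ V, c⁻¹ * x * c⁻¹⁻¹ = x → x = 1 := by
  intro x hx hcx
  refine hf x hx ?_
  rw [inv_inv] at hcx
  calc c * x * c⁻¹ = c * (c⁻¹ * x * c) * c⁻¹ := by rw [hcx]
    _ = x := by group

end basic

section

variable (R : RGD cs h p T n X)

include R

theorem Pos.conj [Finite W] {J : Set I} {c k : Y} (hc : Pos cs h T X J c) (hk : k ∈ LJ cs h T X J) :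
    Pos cs h T X J (k * c * k⁻¹) :=
  ⟨mul_mem (mul_mem hk hc.mem) (inv_mem hk), fix_conj (LJ_le_normalizer_VJ R J hk) hc.fix⟩

theorem Neg.conj [Finite W] {J : Set I} {c k : Y} (hc : Neg cs h T X J c) (hk : k ∈ LJ cs h T X J) :
    Neg cs h T X J (k * c * k⁻¹) :=
  ⟨mul_mem (mul_mem hk hc.mem) (inv_mem hk), fix_conj (LJ_le_normalizer_VNJ R J hk) hc.fix⟩

omit R in
theorem Pos.inv {J : Set I} {c : Y} (hc : Pos cs h T X J c) : Pos cs h T X J c⁻¹ :=
  ⟨inv_mem hc.mem, fix_inv hc.fix⟩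

omit R in
theorem Neg.inv {J : Set I} {c : Y} (hc : Neg cs h T X J c) : Neg cs h T X J c⁻¹ :=
  ⟨inv_mem hc.mem, fix_inv hc.fix⟩

/-- **From the Levi subgroup to the group**, two classes, one element -/
theorem step [Finite W] [Finite Y] {J : Set I} {g vL uL c₁ c₂ vP uP : Y} (hvP : vP ∈ VNJ cs h X J)
    (huP : uP ∈ VJ cs h X J) (hg : g = vP * vL * (uL * uP)) (hc : vL * uL = c₁ * c₂)
    (h1 : Neg cs h T X J c₁) (h2 : Pos cs h T X J c₂) :
    ∃ x y : Y, g = (x * c₁ * x⁻¹) * (y * c₂ * y⁻¹) := by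
  obtain ⟨a, ha, e1⟩ := exists_conj_of_fix R (LJ_le_normalizer_VNJ R J h1.mem) h1.fix hvP
  have huP' : c₂ * uP * c₂⁻¹ ∈ VJ cs h X J :=
    (Subgroup.mem_normalizer_iff.1 (LJ_le_normalizer_VJ R J h2.mem) uP).1 huP
  obtain ⟨b, hb, e2⟩ := exists_conj_of_fix R (LJ_le_normalizer_VJ R J h2.mem) h2.fix huP'
  refine ⟨a, b, ?_⟩
  rw [hg, ← e1, ← e2]
  calc vP * vL * (uL * uP) = vP * (vL * uL) * uP := by group
    _ = vP * c₁ * (c₂ * uP * c₂⁻¹ * c₂) := by rw [hc]; group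

/-- **From the Levi subgroup to the group**, two classes. `P` is the wanted relation between the classes. -/
theorem two_aux [Finite W] [Finite Y] {J : Set I} {P Q : Y → Y → Prop}
    (hb : ∀ v ∈ UNJ cs h X J, ∀ u ∈ UJ cs h X J, Q v u → ∃ c₁ c₂, v * u = c₁ * c₂ ∧ Neg cs h T X J c₁ ∧
      Pos cs h T X J c₂ ∧ P c₁ c₂) {g : Y}
    (hg : ∃ x : Y, ∃ vP ∈ VNJ cs h X J, ∃ vL ∈ UNJ cs h X J, ∃ uL ∈ UJ cs h X J, ∃ uP ∈ VJ cs h X J,
      Q vL uL ∧ x * g * x⁻¹ = vP * vL * (uL * uP)) :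
    ∃ c₁ c₂ x y : Y, g = (x * c₁ * x⁻¹) * (y * c₂ * y⁻¹) ∧ P c₁ c₂ := by
  obtain ⟨x, vP, hvP, vL, hvL, uL, huL, uP, huP, hQ, e⟩ := hg
  obtain ⟨c₁, c₂, hc, h1, h2, hP⟩ := hb vL hvL uL huL hQ
  obtain ⟨a, b, e1⟩ := step R hvP huP e hc h1 h2
  refine ⟨c₁, c₂, x⁻¹ * a, x⁻¹ * b, ?_, hP⟩
  calc g = x⁻¹ * (x * g * x⁻¹) * x := by group
    _ = _ := by rw [e1]; group

variable {F : I → Type*} [∀ i, Field (F i)] {s : ∀ i, Matrix.SpecialLinearGroup (Fin 2) (F i) →* Y}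

omit R in
/-- every element outside the core of `B` is conjugate to an element of `V_J⁻ U_J⁻ U_J V_J` -/
theorem gaussJ [Finite W] (R : RGD cs h p T n X) (hG : G1 cs h X = ⊤) (C : Coord X F s)
    (hconn : ∀ J : Set I, J.Nonempty → J ≠ Set.univ → ∃ a ∈ J, ∃ b, b ∉ J ∧ M a b ≠ 2) (J : Set I) {g : Y}
    (hg : g ∉ (RGD.B cs h T X).normalCore ∨ g = 1) :
    ∃ x : Y, ∃ vP ∈ VNJ cs h X J, ∃ vL ∈ UNJ cs h X J, ∃ uL ∈ UJ cs h X J, ∃ uP ∈ VJ cs h X J,
      x * g * x⁻¹ = vP * vL * (uL * uP) := by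
  rcases hg with hg | rfl
  · obtain ⟨x, v, hv, u, hu, e⟩ := gauss R hG C hconn hg
    obtain ⟨vP, hvP, vL, hvL, rfl⟩ := exists_UNJ R (J := J) hv
    obtain ⟨uL, huL, uP, huP, rfl⟩ := (mem_U_iff R (J := J)).1 hu
    exact ⟨x, vP, hvP, vL, hvL, uL, huL, uP, huP, e⟩
  · exact ⟨1, 1, one_mem _, 1, one_mem _, 1, one_mem _, 1, one_mem _, by group⟩

omit R in
/-- a product of a conjugate of `c₁` and a conjugate of `c₂`, `c₂` conjugate to `c₁⁻¹`, is a commutator -/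
theorem comm_of {g c₁ c₂ x y k : Y} (hg : g = (x * c₁ * x⁻¹) * (y * c₂ * y⁻¹)) (hk : k * c₁ * k⁻¹ = c₂⁻¹) :
    ∃ a b : Y, g = a * b * a⁻¹ * b⁻¹ := by
  have h2 : c₂ = (k * c₁ * k⁻¹)⁻¹ := by rw [hk, inv_inv]
  refine ⟨x * c₁ * x⁻¹, y * k * x⁻¹, ?_⟩
  rw [hg, h2]; group

/-! ### The side condition -/

omit R in
/-- both components in the root groups of `±k` trivial, or both nontrivial -/
def Parity (cs : CoxeterSystem M W) (h : IsCartan M A) (X : (I → ℤ) → Subgroup Y) (k : I) (v u : Y) : Prop :=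
  v ∈ VNJ cs h X {k} ↔ u ∈ VJ cs h X {k}

omit R in
theorem VJ_anti {J K : Set I} (hJK : J ⊆ K) : VJ cs h X K ≤ VJ cs h X J :=
  RGD.Sup_le fun _ hx => RGD.le_Sup (S := NotJ cs h J)
    ⟨hx.1, hx.2.1, hx.2.2.imp fun _ hk => ⟨fun h => hk.1 (hJK h), hk.2⟩⟩

omit R in
theorem VNJ_anti {J K : Set I} (hJK : J ⊆ K) : VNJ cs h X K ≤ VNJ cs h X J :=
  RGD.Sup_le fun x hx => RGD.le_Sup (S := NotNJ cs h J) (show -x ∈ NotJ cs h J from
    ⟨hx.1, hx.2.1, hx.2.2.imp fun _ hk => ⟨fun h => hk.1 (hJK h), hk.2⟩⟩)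

end

/-! ### One block of type `A` -/

open Cfsg.Agent.H162.GaussSL

/-- one block: `φ : SL_n(K) → L_J` with the unipotent groups of `L_J` in its image, and an element `s₀` of `L_J` acting
on the block as `d ∈ GL_n(K)` -/
structure Blk (cs : CoxeterSystem M W) (h : IsCartan M A) (T : Subgroup Y) (X : (I → ℤ) → Subgroup Y) (J : Set I)
    {K : Type*} [Field K] {m : ℕ} (φ : Matrix.SpecialLinearGroup (Fin m) K →* Y) (s₀ : Y)
    (d : GL (Fin m) K) : Prop where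
  mem : s₀ ∈ LJ cs h T X J
  act : ∀ A, s₀ * φ A * s₀⁻¹ = φ (gc d A)
  range : ∀ A, φ A ∈ LJ cs h T X J
  up : ∀ r ∈ PosJ cs h J, X r ≤ (UT m K).map φ
  lo : ∀ r ∈ PosJ cs h J, X (-r) ≤ (_root_.Cfsg.Agent.H162.GaussSL.LT m K).map φ

theorem Blk.exists_up {J : Set I} {K : Type*} [Field K] {m : ℕ} {φ : Matrix.SpecialLinearGroup (Fin m) K →* Y}
    {s₀ : Y} {d : GL (Fin m) K} (D : Blk cs h T X J φ s₀ d) {u : Y} (hu : u ∈ UJ cs h X J) :
    ∃ U ∈ UT m K, φ U = u := by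
  have h1 : UJ cs h X J ≤ (UT m K).map φ := RGD.Sup_le fun r hr => D.up r hr
  obtain ⟨U, hU, e⟩ := h1 hu
  exact ⟨U, hU, e⟩

theorem Blk.exists_lo {J : Set I} {K : Type*} [Field K] {m : ℕ} {φ : Matrix.SpecialLinearGroup (Fin m) K →* Y}
    {s₀ : Y} {d : GL (Fin m) K} (D : Blk cs h T X J φ s₀ d) {v : Y} (hv : v ∈ UNJ cs h X J) :
    ∃ L ∈ _root_.Cfsg.Agent.H162.GaussSL.LT m K, φ L = v := by
  have h1 : UNJ cs h X J ≤ (_root_.Cfsg.Agent.H162.GaussSL.LT m K).map φ := RGD.Sup_le fun r hr => by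
    have := D.lo (-r) hr
    rwa [neg_neg] at this
  obtain ⟨L, hL, e⟩ := h1 hv
  exact ⟨L, hL, e⟩

section oneblock

variable {J : Set I} {K : Type*} [Field K] {m : ℕ} {φ : Matrix.SpecialLinearGroup (Fin m) K →* Y}
    {s₀ : Y} {d : GL (Fin m) K} (D : Blk cs h T X J φ s₀ d)

include D

/-- the conjugate of `s₀ φ(A)` -/
theorem Blk.conj (g B : Matrix.SpecialLinearGroup (Fin m) K) :
    φ g * (s₀ * φ B) * (φ g)⁻¹ = s₀ * φ (gc d⁻¹ g * B * g⁻¹) := by
  have h1 := D.act (gc d⁻¹ g)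
  rw [gc_gc, mul_inv_cancel, gc_one] at h1
  rw [map_mul, map_mul, map_inv, ← h1]
  group

/-- `s₀ φ(B) (s₀ φ(B'))⁻¹ = φ(M M'⁻¹)`, `M = d B`, `M' = d B'` -/
theorem Blk.div {A B B' : Matrix.SpecialLinearGroup (Fin m) K}
    (e : (A : GL (Fin m) K) = (d * (B : GL (Fin m) K)) * (d * (B' : GL (Fin m) K))⁻¹) :
    φ A = (s₀ * φ B) * (s₀ * φ B')⁻¹ := by
  have h1 := D.act (B * B'⁻¹)
  have h2 : gc d (B * B'⁻¹) = A := by
    apply coe_inj
    rw [coe_gc, e, map_mul, map_inv]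
    group
  rw [h2, map_mul, map_inv] at h1
  rw [← h1]; group

/-- the product lemma in the block gives the product in `Y` -/
theorem Blk.prod {X₀ A g₁ g₂ : Matrix.SpecialLinearGroup (Fin m) K}
    (e : (A : GL (Fin m) K) = ((g₁ : GL (Fin m) K) * (d * (X₀ : GL (Fin m) K)) * (g₁ : GL (Fin m) K)⁻¹) *
      ((g₂ : GL (Fin m) K) * (d * (X₀ : GL (Fin m) K)) * (g₂ : GL (Fin m) K)⁻¹)⁻¹) :
    φ A = (φ g₁ * (s₀ * φ X₀) * (φ g₁)⁻¹) * (φ g₂ * (s₀ * φ X₀) * (φ g₂)⁻¹)⁻¹ := by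
  rw [D.conj, D.conj]
  refine D.div ?_
  rw [e]
  congr 1
  · rw [map_mul, map_mul, coe_gc, map_inv]
    group
  · congr 1
    rw [map_mul, map_mul, coe_gc, map_inv]
    group

end oneblock

section

variable {F : I → Type*} [∀ i, Field (F i)] {s : ∀ i, Matrix.SpecialLinearGroup (Fin 2) (F i) →* Y}

end

end Cfsg.Agent.H584.Ore.Engine
end

-- part: H584/Ore/Par
section
/-!
# The side condition at several nodes; blocks given by an arbitrary group (S2443, S4171: `E₆(2)`, `F₄(2)`)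

* `gauss_parS` : Gauss decomposition with the side condition `Parity k` for all `k ∈ S`.
* `AB` : a homomorphism `Φ : G → L_J` with subgroups `U`, `L` of `G` covering `U_J`, `U_J⁻`.
* `Crd` : the coordinate at the node `k` in terms of `G`; `Crd.iff`.
* `square_par` : the square theorem with the side condition.
-/

set_option autoImplicit false
set_option linter.unusedSectionVars false

namespace Cfsg.Agent.H584.Ore.Par

open CoxeterSystem Cfsg.Agent.ChevalleyStructure.CoxeterGeom Cfsg.Agent.Tits.Roots Cfsg.Agent.Tits.Core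
  Cfsg.Agent.Nodes.Reps
  Cfsg.Agent.Nodes.BNOf Cfsg.Agent.Nodes.StabComb
  Cfsg.Agent.Nodes.RGDLib Cfsg.Agent.Nodes.Bruhat Cfsg.Agent.Nodes.OppDec Cfsg.Agent.Nodes.LeviDec
  Cfsg.Agent.OddHalf.NI.Mult
  Cfsg.Agent.H162.GaussDec Cfsg.Agent.H162.GaussLevi Cfsg.Agent.H584.Ore.Engine

variable {I W Y : Type*} [Fintype I] [DecidableEq I] [Group W] [Group Y] {M : CoxeterMatrix I}
  {cs : CoxeterSystem M W} {A : I → I → ℤ} {h : IsCartan M A} {p : ℕ} {T : Subgroup Y} {n : I → Y}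
  {X : (I → ℤ) → Subgroup Y}

section

variable {F : I → Type*} [∀ i, Field (F i)] {s : ∀ i, Matrix.SpecialLinearGroup (Fin 2) (F i) →* Y}

/-- **Gauss decomposition with the side condition at the nodes of `S`.** -/
theorem gauss_parS [Finite W] (R : RGD cs h p T n X) (hG : G1 cs h X = ⊤) (C : Coord X F s)
    (hconn : ∀ J : Set I, J.Nonempty → J ≠ Set.univ → ∃ a ∈ J, ∃ b, b ∉ J ∧ M a b ≠ 2) {J K S : Set I}
    (hSJ : S ⊆ J) (hSK : S ⊆ K)
    (hK : ∀ v ∈ UNJ cs h X K, ∀ u ∈ UJ cs h X K, ∃ y ∈ LJ cs h T X K, ∃ v' ∈ UNJ cs h X K, ∃ u' ∈ UJ cs h X K,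
      y * (v * u) * y⁻¹ = v' * u' ∧ ∀ k ∈ S, Parity cs h X k v' u') {g : Y}
    (hg : g ∉ (RGD.B cs h T X).normalCore ∨ g = 1) :
    ∃ x : Y, ∃ vP ∈ VNJ cs h X J, ∃ vL ∈ UNJ cs h X J, ∃ uL ∈ UJ cs h X J, ∃ uP ∈ VJ cs h X J,
      (∀ k ∈ S, Parity cs h X k vL uL) ∧ x * g * x⁻¹ = vP * vL * (uL * uP) := by
  obtain ⟨x, vP, hvP, vL, hvL, uL, huL, uP, huP, e⟩ := gaussJ R hG C hconn K hg
  obtain ⟨y, hy, v', hv', u', hu', e1, hpar⟩ := hK vL hvL uL huL
  have hP1 : y * vP * y⁻¹ ∈ VNJ cs h X K :=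
    (Subgroup.mem_normalizer_iff.1 (LJ_le_normalizer_VNJ R K hy) vP).1 hvP
  have hP2 : y * uP * y⁻¹ ∈ VJ cs h X K :=
    (Subgroup.mem_normalizer_iff.1 (LJ_le_normalizer_VJ R K hy) uP).1 huP
  have hv : y * vP * y⁻¹ * v' ∈ UN cs h X := by
    refine mul_mem (VNJ_le_UN K hP1) ?_
    exact (RGD.Sup_le fun z hz => RGD.le_Sup (S := {x | IsRoot cs h x ∧ x ≤ 0}) ⟨by
      have := hz.1.neg; rwa [neg_neg] at this, by have := hz.2.1; exact neg_nonneg.1 this⟩ : UNJ cs h X K ≤ UN cs h X) hv'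
  have hu : u' * (y * uP * y⁻¹) ∈ RGD.Sup X (RGD.Pos cs h) := (mem_U_iff R (J := K)).2 ⟨u', hu', _, hP2, rfl⟩
  have e2 : (y * x) * g * (y * x)⁻¹ = (y * vP * y⁻¹ * v') * (u' * (y * uP * y⁻¹)) := by
    calc (y * x) * g * (y * x)⁻¹ = y * (x * g * x⁻¹) * y⁻¹ := by group
      _ = (y * vP * y⁻¹) * (y * (vL * uL) * y⁻¹) * (y * uP * y⁻¹) := by rw [e]; group
      _ = _ := by rw [e1]; group
  have hpar' : ∀ k ∈ S, Parity cs h X k (y * vP * y⁻¹ * v') (u' * (y * uP * y⁻¹)) := by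
    intro k hk
    have hK1 : ({k} : Set I) ⊆ K := Set.singleton_subset_iff.2 (hSK hk)
    have h1 := hpar k hk
    unfold Parity at h1 ⊢
    rw [Subgroup.mul_mem_cancel_left _ (VNJ_anti hK1 hP1), Subgroup.mul_mem_cancel_right _ (VJ_anti hK1 hP2)]
    exact h1
  obtain ⟨a, ha, b, hb, e3⟩ := exists_UNJ R (J := J) hv
  obtain ⟨c, hc, d, hd, e4⟩ := (mem_U_iff R (J := J)).1 hu
  refine ⟨y * x, a, ha, b, hb, c, hc, d, hd, ?_, by rw [e2, e3, e4]⟩
  intro k hk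
  have hJ1 : ({k} : Set I) ⊆ J := Set.singleton_subset_iff.2 (hSJ hk)
  have h1 := hpar' k hk
  rw [e3, e4] at h1
  unfold Parity at h1 ⊢
  rwa [Subgroup.mul_mem_cancel_left _ (VNJ_anti hJ1 ha), Subgroup.mul_mem_cancel_right _ (VJ_anti hJ1 hd)] at h1

end

/-! ### Blocks -/

/-- a homomorphism onto the semisimple part of the Levi subgroup of `J` -/
structure AB (cs : CoxeterSystem M W) (h : IsCartan M A) (T : Subgroup Y) (X : (I → ℤ) → Subgroup Y) (J : Set I)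
    {G : Type*} [Group G] (Φ : G →* Y) (U L : Subgroup G) : Prop where
  range : ∀ A, Φ A ∈ LJ cs h T X J
  up : ∀ r ∈ PosJ cs h J, X r ≤ U.map Φ
  lo : ∀ r ∈ PosJ cs h J, X (-r) ≤ L.map Φ
  up' : U.map Φ ≤ UJ cs h X J
  lo' : L.map Φ ≤ UNJ cs h X J

section

variable {J : Set I} {G : Type*} [Group G] {Φ : G →* Y} {U L : Subgroup G}

theorem AB.exists_up (D : AB cs h T X J Φ U L) {u : Y} (hu : u ∈ UJ cs h X J) : ∃ B ∈ U, Φ B = u := by
  have h1 : UJ cs h X J ≤ U.map Φ := RGD.Sup_le fun r hr => D.up r hr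
  exact h1 hu

theorem AB.exists_lo (D : AB cs h T X J Φ U L) {v : Y} (hv : v ∈ UNJ cs h X J) : ∃ B ∈ L, Φ B = v := by
  have h1 : UNJ cs h X J ≤ L.map Φ := RGD.Sup_le fun r hr => by
    have := D.lo (-r) hr
    rwa [neg_neg] at this
  exact h1 hv

end

/-- the coordinate at the node `k`: `Z U₀ ↔` the coordinate is trivial -/
structure Crd (cs : CoxeterSystem M W) (h : IsCartan M A) (X : (I → ℤ) → Subgroup Y) (k : I)
    {G : Type*} [Group G] (Φ : G →* Y) (U L : Subgroup G) (ZU ZL : G → Prop) : Prop where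
  triv : ∀ B ∈ U, ZU B → Φ B ∈ VJ cs h X {k}
  ntriv : ∀ B ∈ U, ¬ ZU B → ∃ t, Φ t ∈ X (sr k) ∧ Φ t ≠ 1 ∧ Φ (t⁻¹ * B) ∈ VJ cs h X {k}
  ltriv : ∀ B ∈ L, ZL B → Φ B ∈ VNJ cs h X {k}
  lntriv : ∀ B ∈ L, ¬ ZL B → ∃ t, Φ t ∈ X (-sr k) ∧ Φ t ≠ 1 ∧ Φ (t⁻¹ * B) ∈ VNJ cs h X {k}

section

variable (R : RGD cs h p T n X) {G : Type*} [Group G] {Φ : G →* Y} {U L : Subgroup G} {ZU ZL : G → Prop} {k : I}

include R

theorem X_inf_VJ [Finite W] {x : Y} (h1 : x ∈ X (sr k)) (h2 : x ∈ VJ cs h X {k}) : x = 1 := by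
  have h3 : x ∈ UJ cs h X {k} := by
    refine RGD.le_Sup (S := PosJ cs h {k}) ⟨isRoot_sr cs h k, ?_, fun j hj => ?_⟩ h1
    · intro j
      by_cases hj : j = k
      · subst hj; rw [sr_self]; exact zero_le_one
      · rw [sr_ne hj]; exact le_refl _
    · exact sr_ne hj
  have h4 : x ∈ UJ cs h X {k} ⊓ VJ cs h X {k} := ⟨h3, h2⟩
  rw [UJ_inf_VJ R {k}] at h4
  exact h4

theorem X_inf_VNJ [Finite W] {x : Y} (h1 : x ∈ X (-sr k)) (h2 : x ∈ VNJ cs h X {k}) : x = 1 := by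
  have h3 : x ∈ LJ cs h T X {k} := by
    refine X_le_LJ (T := T) (X := X) (J := {k}) ⟨(isRoot_sr cs h k).neg, fun j hj => ?_⟩ h1
    rw [Pi.neg_apply, sr_ne hj, neg_zero]
  have h4 : x ∈ LJ cs h T X {k} ⊓ VNJ cs h X {k} := ⟨h3, h2⟩
  rw [LJ_inf_VNJ R {k}] at h4
  exact h4

theorem Crd.iffU [Finite W] (C : Crd cs h X k Φ U L ZU ZL) {B : G} (hB : B ∈ U) : Φ B ∈ VJ cs h X {k} ↔ ZU B := by
  refine ⟨fun h1 => ?_, C.triv B hB⟩
  by_contra h2
  obtain ⟨t, ht, ht1, h3⟩ := C.ntriv B hB h2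
  refine ht1 (X_inf_VJ R ht ?_)
  have h4 : Φ t = Φ B * (Φ (t⁻¹ * B))⁻¹ := by rw [map_mul, map_inv]; group
  rw [h4]
  exact mul_mem h1 (inv_mem h3)

theorem Crd.iffL [Finite W] (C : Crd cs h X k Φ U L ZU ZL) {B : G} (hB : B ∈ L) : Φ B ∈ VNJ cs h X {k} ↔ ZL B := by
  refine ⟨fun h1 => ?_, C.ltriv B hB⟩
  by_contra h2
  obtain ⟨t, ht, ht1, h3⟩ := C.lntriv B hB h2
  refine ht1 (X_inf_VNJ R ht ?_)
  have h4 : Φ t = Φ B * (Φ (t⁻¹ * B))⁻¹ := by rw [map_mul, map_inv]; group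
  rw [h4]
  exact mul_mem h1 (inv_mem h3)

end

section

variable {F : I → Type*} [∀ i, Field (F i)] {s : ∀ i, Matrix.SpecialLinearGroup (Fin 2) (F i) →* Y}

/-- **The square theorem with the side condition.** `GJ`, `GK` are the groups of the blocks of `J` and `K`. -/
theorem square_par [Finite W] [Finite Y] (R : RGD cs h p T n X) (hG : G1 cs h X = ⊤) (C : Coord X F s)
    (hconn : ∀ J : Set I, J.Nonempty → J ≠ Set.univ → ∃ a ∈ J, ∃ b, b ∉ J ∧ M a b ≠ 2) {J K S : Set I}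
    (hSJ : S ⊆ J) (hSK : S ⊆ K)
    {GJ GK : Type*} [Group GJ] [Group GK] {ΦJ : GJ →* Y} {ΦK : GK →* Y} {UU LL : Subgroup GJ} {UK LK : Subgroup GK}
    (DJ : AB cs h T X J ΦJ UU LL) (DK : AB cs h T X K ΦK UK LK)
    {ZU ZL : I → GJ → Prop} {ZU' ZL' : I → GK → Prop}
    (CJ : ∀ k ∈ S, Crd cs h X k ΦJ UU LL (ZU k) (ZL k)) (CK : ∀ k ∈ S, Crd cs h X k ΦK UK LK (ZU' k) (ZL' k))
    (hK : ∀ v ∈ LK, ∀ u ∈ UK, ∃ y, ∃ v' ∈ LK, ∃ u' ∈ UK, y * (v * u) * y⁻¹ = v' * u' ∧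
      ∀ k ∈ S, (ZL' k v' ↔ ZU' k u')) {c₀ : GJ}
    (hJ : ∀ v ∈ LL, ∀ u ∈ UU, (∀ k ∈ S, (ZL k v ↔ ZU k u)) → ∃ g h : GJ,
      v * u = (g * c₀ * g⁻¹) * (h * c₀ * h⁻¹) ∨ v * u = (g * c₀ * g⁻¹) * (h * c₀ * h⁻¹)⁻¹)
    (hP : ∀ x ∈ VJ cs h X J, ΦJ c₀ * x * (ΦJ c₀)⁻¹ = x → x = 1)
    (hN : ∀ x ∈ VNJ cs h X J, ΦJ c₀ * x * (ΦJ c₀)⁻¹ = x → x = 1) (hreal : ∃ z, z * ΦJ c₀ * z⁻¹ = (ΦJ c₀)⁻¹)
    {g : Y} (hg : g ∉ (RGD.B cs h T X).normalCore ∨ g = 1) :
    ∃ x y : Y, g = (x * ΦJ c₀ * x⁻¹) * (y * ΦJ c₀ * y⁻¹) := by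
  obtain ⟨z, hz⟩ := hreal
  have hm : ΦJ c₀ ∈ LJ cs h T X J := DJ.range c₀
  have h1 := gauss_parS R hG C hconn hSJ hSK (J := J) (K := K) (S := S) (fun v hv u hu => by
    obtain ⟨v0, hv0, rfl⟩ := DK.exists_lo hv
    obtain ⟨u0, hu0, rfl⟩ := DK.exists_up hu
    obtain ⟨y, v', hv', u', hu', e, hpar⟩ := hK v0 hv0 u0 hu0
    refine ⟨ΦK y, DK.range y, ΦK v', DK.lo' ⟨v', hv', rfl⟩, ΦK u', DK.up' ⟨u', hu', rfl⟩, ?_, fun k hk => ?_⟩
    · rw [← map_mul, ← map_mul, ← map_inv, ← map_mul, e, map_mul]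
    · unfold Parity
      rw [(CK k hk).iffL R hv', (CK k hk).iffU R hu']
      exact hpar k hk) hg
  obtain ⟨c₁, c₂, x, y, e, h2, h3⟩ := two_aux R (J := J) (Q := fun v u => ∀ k ∈ S, Parity cs h X k v u)
    (P := fun c₁ c₂ => (∃ k, c₁ = k * ΦJ c₀ * k⁻¹) ∧ ∃ k, c₂ = k * ΦJ c₀ * k⁻¹) (fun v hv u hu hpar => by
    obtain ⟨v0, hv0, rfl⟩ := DJ.exists_lo hv
    obtain ⟨u0, hu0, rfl⟩ := DJ.exists_up hu
    obtain ⟨a, b, e | e⟩ := hJ v0 hv0 u0 hu0 (fun k hk => by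
      have := hpar k hk
      unfold Parity at this
      rwa [(CJ k hk).iffL R hv0, (CJ k hk).iffU R hu0] at this)
    · refine ⟨ΦJ a * ΦJ c₀ * (ΦJ a)⁻¹, ΦJ b * ΦJ c₀ * (ΦJ b)⁻¹, ?_, Neg.conj R ⟨hm, hN⟩ (DJ.range a),
        Pos.conj R ⟨hm, hP⟩ (DJ.range b), ⟨_, rfl⟩, _, rfl⟩
      rw [← map_mul, e]
      simp only [map_mul, map_inv]
    · refine ⟨ΦJ a * ΦJ c₀ * (ΦJ a)⁻¹, (ΦJ b * ΦJ c₀ * (ΦJ b)⁻¹)⁻¹, ?_, Neg.conj R ⟨hm, hN⟩ (DJ.range a),
        (Pos.conj R ⟨hm, hP⟩ (DJ.range b)).inv, ⟨_, rfl⟩, ΦJ b * z, ?_⟩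
      · rw [← map_mul, e]
        simp only [map_mul, map_inv]
      · have h5 : (ΦJ b * z) * ΦJ c₀ * (ΦJ b * z)⁻¹ = ΦJ b * (z * ΦJ c₀ * z⁻¹) * (ΦJ b)⁻¹ := by group
        rw [h5, hz]; group) h1
  obtain ⟨⟨k₁, rfl⟩, k₂, rfl⟩ := (⟨h2, h3⟩ : (∃ k, c₁ = k * ΦJ c₀ * k⁻¹) ∧ ∃ k, c₂ = k * ΦJ c₀ * k⁻¹)
  refine ⟨x * k₁, y * k₂, ?_⟩
  rw [e]; group

end

end Cfsg.Agent.H584.Ore.Par
end

-- part: H584/Ore/Tab
section
/-!
Finite facts over the field with two elements (S2443, S4171: `E₆(2)`, `F₄(2)`).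
-/

set_option autoImplicit false
set_option maxRecDepth 10000

namespace Cfsg.Agent.H584.Ore.Tab

open Matrix Cfsg.Agent.H162.GaussSL

/-- the `3 × 3` matrix with the code `n` -/
def dc (n : ℕ) : Matrix (Fin 3) (Fin 3) (ZMod 2) := Matrix.of fun i j => ((n / 2 ^ (3 * i.val + j.val) : ℕ) : ZMod 2)

/-- a symmetric element of order 7 -/
def X0 : Matrix (Fin 3) (Fin 3) (ZMod 2) := !![0, 0, 1; 0, 1, 1; 1, 1, 0]

/-- its inverse -/
def X0i : Matrix (Fin 3) (Fin 3) (ZMod 2) := !![1, 1, 1; 1, 1, 0; 1, 0, 0]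

def lo (a b c : ZMod 2) : Matrix (Fin 3) (Fin 3) (ZMod 2) := !![1, 0, 0; a, 1, 0; b, c, 1]

def up (a b c : ZMod 2) : Matrix (Fin 3) (Fin 3) (ZMod 2) := !![1, a, b; 0, 1, c; 0, 0, 1]

def idx (a b c a' b' c' : ZMod 2) : ℕ :=
  ((((a.val * 2 + b.val) * 2 + c.val) * 2 + a'.val) * 2 + b'.val) * 2 + c'.val

def tab1 : List (ℕ × ℕ × ℕ × ℕ × Bool) := [
  (84, 84, 84, 84, true), (340, 85, 468, 87, false), (84, 84, 244, 95, false), (212, 86, 156, 102, false), (340,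
  85, 116, 92, false), (340, 85, 412, 111, true), (212, 86, 372, 93, false), (468, 87, 372, 93, true), (172,
  99, 188, 103, false), (84, 84, 156, 102, false), (84, 84, 212, 86, true), (340, 85, 396, 106, false), (84,
  84, 372, 93, false), (500, 94, 236, 123, false), (212, 86, 84, 84, true), (412, 111, 188, 103, false), (84,
  84, 500, 94, false), (84, 84, 372, 93, true), (204, 114, 156, 102, false), (236, 123, 188, 103, false), (84,
  84, 468, 87, true), (116, 92, 116, 92, false), (140, 98, 92, 116, false), (84, 84, 380, 117, false), (140,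
  98, 156, 102, false), (116, 92, 188, 103, false), (340, 85, 372, 93, false), (340, 85, 460, 122, true),
  (340, 85, 212, 86, true), (340, 85, 156, 102, false), (468, 87, 244, 95, false), (348, 125, 348, 125,
  false), (140, 98, 444, 110, false), (84, 84, 212, 86, false), (84, 84, 116, 92, true), (116, 92, 84, 84,
  true), (212, 86, 492, 115, false), (372, 93, 172, 99, false), (84, 84, 204, 114, false), (412, 111, 348,
  125, false), (140, 98, 428, 107, true), (372, 93, 444, 110, false), (396, 106, 396, 106, false), (116, 92,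
  92, 116, false), (468, 87, 236, 123, false), (244, 95, 244, 95, false), (212, 86, 444, 110, false), (244,
  95, 84, 84, true), (204, 114, 124, 124, false), (340, 85, 116, 92, true), (340, 85, 212, 86, false), (372,
  93, 244, 95, false), (84, 84, 172, 99, false), (340, 85, 204, 114, false), (84, 84, 236, 123, true), (124,
  124, 124, 124, false), (204, 114, 236, 123, true), (340, 85, 412, 111, false), (84, 84, 124, 124, false),
  (428, 107, 428, 107, false), (340, 85, 428, 107, false), (340, 85, 140, 98, true), (460, 122, 460, 122,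
  false), (84, 84, 492, 115, false)]

def tab2 : List (ℕ × ℕ × ℕ) := [
  (84, 84, 0), (84, 84, 32), (84, 84, 16), (84, 84, 48), (98, 140, 16), (226, 141, 20), (102, 156, 16), (98,
  140, 20), (84, 84, 4), (116, 92, 36), (340, 85, 20), (372, 93, 52), (340, 85, 4), (116, 92, 52), (84, 84,
  20), (372, 93, 36), (84, 84, 2), (116, 92, 34), (340, 85, 18), (372, 93, 50), (244, 95, 27), (212, 86, 59),
  (500, 94, 11), (468, 87, 43), (84, 84, 6), (116, 92, 38), (340, 85, 22), (372, 93, 54), (116, 92, 27), (340,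
  85, 43), (372, 93, 11), (84, 84, 59), (98, 140, 2), (98, 140, 6), (370, 207, 27), (114, 204, 27), (212, 86,
  9), (212, 86, 57), (212, 86, 41), (212, 86, 25), (468, 87, 61), (244, 95, 13), (212, 86, 45), (500, 94, 29),
  (212, 86, 13), (244, 95, 45), (468, 87, 29), (500, 94, 61), (116, 92, 2), (84, 84, 34), (372, 93, 18), (340,
  85, 50), (212, 86, 11), (244, 95, 43), (468, 87, 27), (500, 94, 59), (372, 93, 47), (340, 85, 15), (116, 92,
  63), (84, 84, 31), (212, 86, 15), (244, 95, 47), (468, 87, 31), (500, 94, 63)]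

private noncomputable def _root_.Cfsg.Agent.LsF.fcf3ba6_0 : {f // @Cfsg.Agent.H584.Ore.Tab.dc = f} := ⟨_, by first | (delta Cfsg.Agent.H584.Ore.Tab.dc; rewrite [Cfsg.Agent.LsF.mof_pat, Cfsg.Agent.LsF.nadd_pat, Cfsg.Agent.LsF.nmul_pat, Cfsg.Agent.LsF.ndiv_pat, Cfsg.Agent.LsF.npow_pat, Cfsg.Agent.LsF.zcast_pat]; exact rfl) | exact rfl⟩
private noncomputable def _root_.Cfsg.Agent.LsF.fcf3ba6_1 : {f // @Cfsg.Agent.H584.Ore.Tab.idx = f} := ⟨_, by first | (delta Cfsg.Agent.H584.Ore.Tab.idx; rewrite [Cfsg.Agent.LsF.nadd_pat, Cfsg.Agent.LsF.nmul_pat, Cfsg.Agent.LsF.zval_eq]; exact rfl) | exact rfl⟩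
private noncomputable def _root_.Cfsg.Agent.LsF.fcf3ba6_2 : {f // @Cfsg.Agent.H584.Ore.Tab.lo = f} := ⟨_, by first | (delta Cfsg.Agent.H584.Ore.Tab.lo; rewrite [Cfsg.Agent.LsF.mof_pat, Cfsg.Agent.LsF.vecCons_eq]; exact rfl) | exact rfl⟩
private noncomputable def _root_.Cfsg.Agent.LsF.fcf3ba6_3 : {f // @Cfsg.Agent.H584.Ore.Tab.up = f} := ⟨_, by first | (delta Cfsg.Agent.H584.Ore.Tab.up; rewrite [Cfsg.Agent.LsF.mof_pat, Cfsg.Agent.LsF.vecCons_eq]; exact rfl) | exact rfl⟩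
private noncomputable def _root_.Cfsg.Agent.LsF.fcf3ba6_4 : {f // @Cfsg.Agent.H584.Ore.Tab.X0 = f} := ⟨_, by first | (delta Cfsg.Agent.H584.Ore.Tab.X0; rewrite [Cfsg.Agent.LsF.mof_pat, Cfsg.Agent.LsF.vecCons_eq]; exact rfl) | exact rfl⟩
private noncomputable def _root_.Cfsg.Agent.LsF.fcf3ba6_5 : {f // @Cfsg.Agent.H584.Ore.Tab.X0i = f} := ⟨_, by first | (delta Cfsg.Agent.H584.Ore.Tab.X0i; rewrite [Cfsg.Agent.LsF.mof_pat, Cfsg.Agent.LsF.vecCons_eq]; exact rfl) | exact rfl⟩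
theorem chk1 : ∀ a b c a' b' c' : ZMod 2,
    dc (tab1.getD (idx a b c a' b' c') (0, 0, 0, 0, false)).1 *
      dc (tab1.getD (idx a b c a' b' c') (0, 0, 0, 0, false)).2.1 = 1 ∧
    dc (tab1.getD (idx a b c a' b' c') (0, 0, 0, 0, false)).2.2.1 *
      dc (tab1.getD (idx a b c a' b' c') (0, 0, 0, 0, false)).2.2.2.1 = 1 ∧
    lo a b c * up a' b' c' =
      (dc (tab1.getD (idx a b c a' b' c') (0, 0, 0, 0, false)).1 * X0 *
        dc (tab1.getD (idx a b c a' b' c') (0, 0, 0, 0, false)).2.1) *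
      (dc (tab1.getD (idx a b c a' b' c') (0, 0, 0, 0, false)).2.2.1 *
        (if (tab1.getD (idx a b c a' b' c') (0, 0, 0, 0, false)).2.2.2.2 then X0i else X0) *
        dc (tab1.getD (idx a b c a' b' c') (0, 0, 0, 0, false)).2.2.2.1) := by
  (refine of_decide_eq_true ?_; (try (rewrite [Cfsg.Agent.LsF.mmulF_pat, Cfsg.Agent.LsF.fcf3ba6_0.2, Cfsg.Agent.LsF.fcf3ba6_1.2, Cfsg.Agent.LsF.fcf3ba6_2.2, Cfsg.Agent.LsF.fcf3ba6_3.2, Cfsg.Agent.LsF.fcf3ba6_4.2, Cfsg.Agent.LsF.fcf3ba6_5.2, Cfsg.Agent.LsF.zadd_pat, Cfsg.Agent.LsF.zmul_pat, Cfsg.Agent.LsF.zdecEq_eq, Cfsg.Agent.LsF.finFintype_eq, Cfsg.Agent.LsF.zFintype_eq, Cfsg.Agent.LsF.dForall_eq, Cfsg.Agent.LsF.dMat_eq, Cfsg.Agent.LsF.instMOne_eq, Cfsg.Agent.LsF.zACM_pat, Cfsg.Agent.LsF.getD_eq, Cfsg.Agent.LsF.dAnd_eq, Cfsg.Agent.LsF.dFinEq_eq, Cfsg.Agent.LsF.dBoolEq_eq, Cfsg.Agent.LsF.ite_eq, Cfsg.Agent.LsF.decide_eq])); decide +kernel)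

/-- the bit of a code -/
def bt (n k : ℕ) : ZMod 2 := ((n / 2 ^ k : ℕ) : ZMod 2)

private noncomputable def _root_.Cfsg.Agent.LsF.fcf3ba6_6 : {f // @Cfsg.Agent.H584.Ore.Tab.bt = f} := ⟨_, by first | (delta Cfsg.Agent.H584.Ore.Tab.bt; rewrite [Cfsg.Agent.LsF.ndiv_pat, Cfsg.Agent.LsF.npow_pat, Cfsg.Agent.LsF.zcast_pat]; exact rfl) | exact rfl⟩
theorem chk2 : ∀ a b c a' b' c' : ZMod 2,
    dc (tab2.getD (idx a b c a' b' c') (0, 0, 0)).1 * dc (tab2.getD (idx a b c a' b' c') (0, 0, 0)).2.1 = 1 ∧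
    dc (tab2.getD (idx a b c a' b' c') (0, 0, 0)).1 * (lo a b c * up a' b' c') *
      dc (tab2.getD (idx a b c a' b' c') (0, 0, 0)).2.1 =
      lo (bt (tab2.getD (idx a b c a' b' c') (0, 0, 0)).2.2 5) (bt (tab2.getD (idx a b c a' b' c') (0, 0, 0)).2.2 4)
        (bt (tab2.getD (idx a b c a' b' c') (0, 0, 0)).2.2 3) *
      up (bt (tab2.getD (idx a b c a' b' c') (0, 0, 0)).2.2 2) (bt (tab2.getD (idx a b c a' b' c') (0, 0, 0)).2.2 1)
        (bt (tab2.getD (idx a b c a' b' c') (0, 0, 0)).2.2 0) ∧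
    bt (tab2.getD (idx a b c a' b' c') (0, 0, 0)).2.2 3 = bt (tab2.getD (idx a b c a' b' c') (0, 0, 0)).2.2 0 := by
  (refine of_decide_eq_true ?_; (try (rewrite [Cfsg.Agent.LsF.mmulF_pat, Cfsg.Agent.LsF.fcf3ba6_0.2, Cfsg.Agent.LsF.fcf3ba6_1.2, Cfsg.Agent.LsF.fcf3ba6_2.2, Cfsg.Agent.LsF.fcf3ba6_3.2, Cfsg.Agent.LsF.fcf3ba6_6.2, Cfsg.Agent.LsF.zadd_pat, Cfsg.Agent.LsF.zmul_pat, Cfsg.Agent.LsF.zdecEq_eq, Cfsg.Agent.LsF.finFintype_eq, Cfsg.Agent.LsF.zFintype_eq, Cfsg.Agent.LsF.dForall_eq, Cfsg.Agent.LsF.dMat_eq, Cfsg.Agent.LsF.instMOne_eq, Cfsg.Agent.LsF.zACM_pat, Cfsg.Agent.LsF.getD_eq, Cfsg.Agent.LsF.dAnd_eq, Cfsg.Agent.LsF.dFinEq_eq, Cfsg.Agent.LsF.decide_eq])); decide +kernel)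

theorem X0_mul : X0 * X0i = 1 := by decide +kernel

theorem one_of_ne {x : ZMod 2} (h : x ≠ 0) : x = 1 := by
  revert x
  decide

theorem exists_S {n : ℕ} {A B : Matrix (Fin n) (Fin n) (ZMod 2)} (h : A * B = 1) :
    ∃ g : _root_.Matrix.SpecialLinearGroup (Fin n) (ZMod 2), g.1 = A ∧ (g⁻¹).1 = B := by
  have h1 : A.det = 1 := by
    refine one_of_ne fun h0 => ?_
    have h2 := congrArg Matrix.det h
    rw [det_mul, h0, zero_mul, det_one] at h2
    exact zero_ne_one h2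
  let g : _root_.Matrix.SpecialLinearGroup (Fin n) (ZMod 2) := ⟨A, h1⟩
  refine ⟨g, rfl, ?_⟩
  have h2 : (g⁻¹).1 * A = 1 := congrArg Subtype.val (inv_mul_cancel g)
  calc (g⁻¹).1 = (g⁻¹).1 * (A * B) := by rw [h, Matrix.mul_one]
    _ = B := by rw [← Matrix.mul_assoc, h2, Matrix.one_mul]

/-- the element of order 7 in `SL₃(2)` -/
def XX0 : _root_.Matrix.SpecialLinearGroup (Fin 3) (ZMod 2) := ⟨X0, by decide +kernel⟩

theorem XX0_inv : (XX0⁻¹).1 = X0i := by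
  have h2 : (XX0⁻¹).1 * X0 = 1 := congrArg Subtype.val (inv_mul_cancel XX0)
  calc (XX0⁻¹).1 = (XX0⁻¹).1 * (X0 * X0i) := by rw [X0_mul, Matrix.mul_one]
    _ = X0i := by rw [← Matrix.mul_assoc, h2, Matrix.one_mul]

theorem tr_XX0 : XX0.1ᵀ = XX0.1 := by decide +kernel

theorem eq_lo {L : _root_.Matrix.SpecialLinearGroup (Fin 3) (ZMod 2)} (hL : L ∈ LT 3 (ZMod 2)) :
    L.1 = lo (L.1 1 0) (L.1 2 0) (L.1 2 1) := by
  rw [mem_LT] at hL
  ext i j
  fin_cases i <;> fin_cases j <;> first | exact hL.2 _ | exact hL.1 _ _ (by decide) | rfl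

theorem eq_up {U : _root_.Matrix.SpecialLinearGroup (Fin 3) (ZMod 2)} (hU : U ∈ UT 3 (ZMod 2)) :
    U.1 = up (U.1 0 1) (U.1 0 2) (U.1 1 2) := by
  rw [mem_UT] at hU
  ext i j
  fin_cases i <;> fin_cases j <;> first | exact hU.2 _ | exact hU.1 _ _ (by decide) | rfl

/-- **(F1)** -/
theorem prod_seven {L U : _root_.Matrix.SpecialLinearGroup (Fin 3) (ZMod 2)} (hL : L ∈ LT 3 (ZMod 2)) (hU : U ∈ UT 3 (ZMod 2)) :
    ∃ g h : _root_.Matrix.SpecialLinearGroup (Fin 3) (ZMod 2), L * U = (g * XX0 * g⁻¹) * (h * XX0 * h⁻¹) ∨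
      L * U = (g * XX0 * g⁻¹) * (h * XX0 * h⁻¹)⁻¹ := by
  obtain ⟨h1, h2, h3⟩ := chk1 (L.1 1 0) (L.1 2 0) (L.1 2 1) (U.1 0 1) (U.1 0 2) (U.1 1 2)
  rw [← eq_lo hL, ← eq_up hU] at h3
  obtain ⟨g, hg1, hg2⟩ := exists_S h1
  obtain ⟨k, hk1, hk2⟩ := exists_S h2
  refine ⟨g, k, ?_⟩
  rw [← hg1, ← hg2, ← hk1, ← hk2] at h3
  split_ifs at h3 with hs
  · right
    apply Subtype.ext
    have e : (g * XX0 * g⁻¹) * (k * XX0 * k⁻¹)⁻¹ = (g * XX0 * g⁻¹) * (k * XX0⁻¹ * k⁻¹) := by group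
    rw [e]
    change L.1 * U.1 = (g.1 * X0 * (g⁻¹).1) * (k.1 * (XX0⁻¹).1 * (k⁻¹).1)
    rw [XX0_inv]
    exact h3
  · left
    apply Subtype.ext
    exact h3

/-- **(F2)** -/
theorem parity {L U : _root_.Matrix.SpecialLinearGroup (Fin 3) (ZMod 2)} (hL : L ∈ LT 3 (ZMod 2)) (hU : U ∈ UT 3 (ZMod 2)) :
    ∃ y : _root_.Matrix.SpecialLinearGroup (Fin 3) (ZMod 2), ∃ L' ∈ LT 3 (ZMod 2), ∃ U' ∈ UT 3 (ZMod 2),
      y * (L * U) * y⁻¹ = L' * U' ∧ (L'.1 2 1 = 0 ↔ U'.1 1 2 = 0) := by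
  obtain ⟨h1, h2, h3⟩ := chk2 (L.1 1 0) (L.1 2 0) (L.1 2 1) (U.1 0 1) (U.1 0 2) (U.1 1 2)
  rw [← eq_lo hL, ← eq_up hU] at h2
  obtain ⟨y, hy1, hy2⟩ := exists_S h1
  rw [← hy1, ← hy2] at h2
  set a := bt (tab2.getD (idx (L.1 1 0) (L.1 2 0) (L.1 2 1) (U.1 0 1) (U.1 0 2) (U.1 1 2)) (0, 0, 0)).2.2 5
  set b := bt (tab2.getD (idx (L.1 1 0) (L.1 2 0) (L.1 2 1) (U.1 0 1) (U.1 0 2) (U.1 1 2)) (0, 0, 0)).2.2 4
  set c := bt (tab2.getD (idx (L.1 1 0) (L.1 2 0) (L.1 2 1) (U.1 0 1) (U.1 0 2) (U.1 1 2)) (0, 0, 0)).2.2 3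
  set a' := bt (tab2.getD (idx (L.1 1 0) (L.1 2 0) (L.1 2 1) (U.1 0 1) (U.1 0 2) (U.1 1 2)) (0, 0, 0)).2.2 2
  set b' := bt (tab2.getD (idx (L.1 1 0) (L.1 2 0) (L.1 2 1) (U.1 0 1) (U.1 0 2) (U.1 1 2)) (0, 0, 0)).2.2 1
  set c' := bt (tab2.getD (idx (L.1 1 0) (L.1 2 0) (L.1 2 1) (U.1 0 1) (U.1 0 2) (U.1 1 2)) (0, 0, 0)).2.2 0
  have d1 : (lo a b c).det = 1 := by
    have : ∀ a b c : ZMod 2, (lo a b c).det = 1 := by decide +kernel
    exact this a b c
  have d2 : (up a' b' c').det = 1 := by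
    have : ∀ a b c : ZMod 2, (up a b c).det = 1 := by decide +kernel
    exact this a' b' c'
  let L' : _root_.Matrix.SpecialLinearGroup (Fin 3) (ZMod 2) := ⟨lo a b c, d1⟩
  let U' : _root_.Matrix.SpecialLinearGroup (Fin 3) (ZMod 2) := ⟨up a' b' c', d2⟩
  have hL' : L' ∈ LT 3 (ZMod 2) := by
    rw [mem_LT]
    constructor
    · intro i j hij
      fin_cases i <;> fin_cases j <;> first | rfl | exact absurd hij (by decide)
    · intro i
      fin_cases i <;> rfl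
  have hU' : U' ∈ UT 3 (ZMod 2) := by
    rw [mem_UT]
    constructor
    · intro i j hij
      fin_cases i <;> fin_cases j <;> first | rfl | exact absurd hij (by decide)
    · intro i
      fin_cases i <;> rfl
  refine ⟨y, L', hL', U', hU', ?_, ?_⟩
  · apply Subtype.ext
    exact h2
  · change c = 0 ↔ c' = 0
    rw [h3]

/-! ### `SL₂(2)` -/

/-- the element of order 3 -/
def w : _root_.Matrix.SpecialLinearGroup (Fin 2) (ZMod 2) := ⟨!![1, 1; 1, 0], by decide +kernel⟩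

/-- the swap -/
def sw : _root_.Matrix.SpecialLinearGroup (Fin 2) (ZMod 2) := ⟨!![0, 1; 1, 0], by decide +kernel⟩

theorem tr_w : w.1ᵀ = w.1 := by decide +kernel

theorem sw_w : sw * w * sw⁻¹ = w⁻¹ := by
  have h1 : sw * w * sw * w = 1 := by decide +kernel
  have h2 : sw * sw = 1 := by decide +kernel
  have h3 : sw⁻¹ = sw := inv_eq_of_mul_eq_one_right h2
  rw [h3]
  exact eq_inv_of_mul_eq_one_left h1

theorem w_three : w * w * w = 1 := by decide +kernel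

/-- **(F3)** -/
theorem prod_three {L U : _root_.Matrix.SpecialLinearGroup (Fin 2) (ZMod 2)} (hL : L ∈ LT 2 (ZMod 2)) (hU : U ∈ UT 2 (ZMod 2))
    (h : L.1 1 0 = 0 ↔ U.1 0 1 = 0) :
    ∃ g h : _root_.Matrix.SpecialLinearGroup (Fin 2) (ZMod 2), L * U = (g * w * g⁻¹) * (h * w * h⁻¹) := by
  rw [mem_LT] at hL
  rw [mem_UT] at hU
  have e1 : L.1 = !![1, 0; L.1 1 0, 1] := by
    ext i j
    fin_cases i <;> fin_cases j <;> first | exact hL.2 _ | exact hL.1 _ _ (by decide) | rfl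
  have e2 : U.1 = !![1, U.1 0 1; 0, 1] := by
    ext i j
    fin_cases i <;> fin_cases j <;> first | exact hU.2 _ | exact hU.1 _ _ (by decide) | rfl
  by_cases h0 : L.1 1 0 = 0
  · rw [h0] at e1
    rw [h.1 h0] at e2
    refine ⟨1, sw, ?_⟩
    have h1 : L * U = 1 := by
      apply Subtype.ext
      change L.1 * U.1 = 1
      rw [e1, e2]
      decide +kernel
    rw [h1, sw_w]; group
  · have h0' : U.1 0 1 ≠ 0 := fun h1 => h0 (h.2 h1)
    rw [one_of_ne h0] at e1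
    rw [one_of_ne h0'] at e2
    refine ⟨sw, sw, ?_⟩
    have h1 : L * U = w := by
      apply Subtype.ext
      change L.1 * U.1 = _
      rw [e1, e2]
      decide +kernel
    have h2 := w_three
    rw [h1, sw_w]
    calc w = w * w * w * w⁻¹ * w⁻¹ := by group
      _ = w⁻¹ * w⁻¹ := by rw [h2, one_mul]

/-! ### The products -/

/-- a product with `SL₃(2)` -/
theorem prod_pair {H : Type*} [Group H] {w₀ : H} (hw : ∃ r : H, r * w₀ * r⁻¹ = w₀⁻¹)
    {L U : _root_.Matrix.SpecialLinearGroup (Fin 3) (ZMod 2)} (hL : L ∈ LT 3 (ZMod 2)) (hU : U ∈ UT 3 (ZMod 2)) {l u : H}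
    (h : ∃ g h : H, l * u = (g * w₀ * g⁻¹) * (h * w₀ * h⁻¹)) :
    ∃ g h : _root_.Matrix.SpecialLinearGroup (Fin 3) (ZMod 2) × H,
      (L, l) * (U, u) = (g * (XX0, w₀) * g⁻¹) * (h * (XX0, w₀) * h⁻¹) ∨
      (L, l) * (U, u) = (g * (XX0, w₀) * g⁻¹) * (h * (XX0, w₀) * h⁻¹)⁻¹ := by
  obtain ⟨r, hr⟩ := hw
  obtain ⟨a, b, hab⟩ := h
  obtain ⟨g, k, e | e⟩ := prod_seven hL hU
  · exact ⟨(g, a), (k, b), Or.inl (Prod.ext e hab)⟩
  · refine ⟨(g, a), (k, b * r⁻¹), Or.inr (Prod.ext e ?_)⟩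
    change l * u = (a * w₀ * a⁻¹) * ((b * r⁻¹) * w₀ * (b * r⁻¹)⁻¹)⁻¹
    rw [hab]
    have h1 : w₀ = r⁻¹ * w₀⁻¹ * r := by rw [← hr]; group
    have h2 : ((b * r⁻¹) * w₀ * (b * r⁻¹)⁻¹)⁻¹ = b * (r⁻¹ * w₀⁻¹ * r) * b⁻¹ := by group
    rw [h2, ← h1]

/-- two copies of `SL₂(2)` -/
theorem prod_three_two {L U L' U' : _root_.Matrix.SpecialLinearGroup (Fin 2) (ZMod 2)} (hL : L ∈ LT 2 (ZMod 2))
    (hU : U ∈ UT 2 (ZMod 2)) (h : L.1 1 0 = 0 ↔ U.1 0 1 = 0) (hL' : L' ∈ LT 2 (ZMod 2))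
    (hU' : U' ∈ UT 2 (ZMod 2)) (h' : L'.1 1 0 = 0 ↔ U'.1 0 1 = 0) :
    ∃ g h : _root_.Matrix.SpecialLinearGroup (Fin 2) (ZMod 2) × _root_.Matrix.SpecialLinearGroup (Fin 2) (ZMod 2),
      (L, L') * (U, U') = (g * (w, w) * g⁻¹) * (h * (w, w) * h⁻¹) := by
  obtain ⟨a, b, hab⟩ := prod_three hL hU h
  obtain ⟨c, d, hcd⟩ := prod_three hL' hU' h'
  exact ⟨(a, c), (b, d), Prod.ext hab hcd⟩

theorem real_ww : ∃ r : _root_.Matrix.SpecialLinearGroup (Fin 2) (ZMod 2) × _root_.Matrix.SpecialLinearGroup (Fin 2) (ZMod 2),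
    r * (w, w) * r⁻¹ = (w, w)⁻¹ := ⟨(sw, sw), Prod.ext sw_w sw_w⟩

end Cfsg.Agent.H584.Ore.Tab
end

-- part: H584/Ore/Build
section
/-!
# Constructors for the data of `square_par` (S2443, S4171: `E₆(2)`, `F₄(2)`)

* `ab_prod`, `crd_inl`, `crd_inr` : two commuting blocks;
* `TabN` : the table of a block of type `A`; `ab_two`, `ab_three`, `crd_two`, `crd_three`;
* `comm_blocks` : two blocks commute;
* `core` : from the elements outside the core of `B` to all elements.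
-/

set_option autoImplicit false
set_option linter.unusedSectionVars false

namespace Cfsg.Agent.H584.Ore.Build

open CoxeterSystem Cfsg.Agent.ChevalleyStructure.CoxeterGeom Cfsg.Agent.Tits.Roots Cfsg.Agent.Tits.Core
  Cfsg.Agent.Nodes.Reps
  Cfsg.Agent.Nodes.BNOf Cfsg.Agent.Nodes.StabComb
  Cfsg.Agent.Nodes.RGDLib Cfsg.Agent.Nodes.Bruhat Cfsg.Agent.Nodes.OppDec Cfsg.Agent.Nodes.LeviDec
  Cfsg.Agent.OddHalf.NI.Mult
  Cfsg.Agent.H162.GaussDec Cfsg.Agent.H162.GaussLevi Cfsg.Agent.H584.Ore.Engine Cfsg.Agent.H584.Ore.Par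

section

variable {I W Y : Type*} [Fintype I] [DecidableEq I] [Group W] [Group Y] {M : CoxeterMatrix I}
  {cs : CoxeterSystem M W} {A : I → I → ℤ} {h : IsCartan M A} {p : ℕ} {T : Subgroup Y} {n : I → Y}
  {X : (I → ℤ) → Subgroup Y}

theorem UJ_mono {J J' : Set I} (hJ : J ⊆ J') : UJ cs h X J ≤ UJ cs h X J' :=
  RGD.Sup_mono fun _ hx => ⟨hx.1, hx.2.1, fun k hk => hx.2.2 k fun h1 => hk (hJ h1)⟩

theorem UNJ_mono {J J' : Set I} (hJ : J ⊆ J') : UNJ cs h X J ≤ UNJ cs h X J' :=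
  RGD.Sup_mono (S := {x | -x ∈ PosJ cs h J}) (S' := {x | -x ∈ PosJ cs h J'})
    fun _ hx => ⟨hx.1, hx.2.1, fun k hk => hx.2.2 k fun h1 => hk (hJ h1)⟩

theorem exists_pos {J : Set I} {r : I → ℤ} (hr : r ∈ PosJ cs h J) {k : I} (hk : k ∉ J) : ∃ j, j ∉ ({k} : Set I) ∧ 0 < r j := by
  obtain ⟨j, hj⟩ := Function.ne_iff.1 hr.1.ne_zero
  have h1 : 0 < r j := lt_of_le_of_ne (hr.2.1 j) (Ne.symm hj)
  refine ⟨j, ?_, h1⟩
  rintro rfl
  exact hj (hr.2.2 _ hk)

theorem UJ_le_VJ {J : Set I} {k : I} (hk : k ∉ J) : UJ cs h X J ≤ VJ cs h X {k} :=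
  RGD.Sup_mono fun _ hx => ⟨hx.1, hx.2.1, exists_pos hx hk⟩

theorem UNJ_le_VNJ {J : Set I} {k : I} (hk : k ∉ J) : UNJ cs h X J ≤ VNJ cs h X {k} :=
  RGD.Sup_mono (S := {x | -x ∈ PosJ cs h J}) (S' := NotNJ cs h {k}) fun _ hx => ⟨hx.1, hx.2.1, exists_pos hx hk⟩

section

variable {G₁ G₂ : Type*} [Group G₁] [Group G₂] {Φ₁ : G₁ →* Y} {Φ₂ : G₂ →* Y} {U₁ L₁ : Subgroup G₁} {U₂ L₂ : Subgroup G₂}
  (hc : ∀ a b, Commute (Φ₁ a) (Φ₂ b))

theorem ab_prod {J₁ J₂ J : Set I} (D₁ : AB cs h T X J₁ Φ₁ U₁ L₁) (D₂ : AB cs h T X J₂ Φ₂ U₂ L₂)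
    (h1 : J₁ ⊆ J) (h2 : J₂ ⊆ J) (hJ : ∀ r ∈ PosJ cs h J, r ∈ PosJ cs h J₁ ∨ r ∈ PosJ cs h J₂) :
    AB cs h T X J (Φ₁.noncommCoprod Φ₂ hc) (U₁.prod U₂) (L₁.prod L₂) where
  range x := mul_mem (LJ_mono h1 (D₁.range x.1)) (LJ_mono h2 (D₂.range x.2))
  up r hr := by
    rcases hJ r hr with h3 | h3
    · intro y hy
      obtain ⟨B, hB, rfl⟩ := D₁.up r h3 hy
      exact ⟨(B, 1), ⟨hB, one_mem _⟩, by rw [MonoidHom.noncommCoprod_apply]; simp⟩
    · intro y hy
      obtain ⟨B, hB, rfl⟩ := D₂.up r h3 hy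
      exact ⟨(1, B), ⟨one_mem _, hB⟩, by rw [MonoidHom.noncommCoprod_apply]; simp⟩
  lo r hr := by
    rcases hJ r hr with h3 | h3
    · intro y hy
      obtain ⟨B, hB, rfl⟩ := D₁.lo r h3 hy
      exact ⟨(B, 1), ⟨hB, one_mem _⟩, by rw [MonoidHom.noncommCoprod_apply]; simp⟩
    · intro y hy
      obtain ⟨B, hB, rfl⟩ := D₂.lo r h3 hy
      exact ⟨(1, B), ⟨one_mem _, hB⟩, by rw [MonoidHom.noncommCoprod_apply]; simp⟩
  up' := by
    rintro _ ⟨B, hB, rfl⟩
    exact mul_mem (UJ_mono h1 (D₁.up' ⟨B.1, hB.1, rfl⟩)) (UJ_mono h2 (D₂.up' ⟨B.2, hB.2, rfl⟩))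
  lo' := by
    rintro _ ⟨B, hB, rfl⟩
    exact mul_mem (UNJ_mono h1 (D₁.lo' ⟨B.1, hB.1, rfl⟩)) (UNJ_mono h2 (D₂.lo' ⟨B.2, hB.2, rfl⟩))

theorem crd_inl {k : I} {ZU ZL : G₁ → Prop} (C : Crd cs h X k Φ₁ U₁ L₁ ZU ZL) {J₂ : Set I}
    (D₂ : AB cs h T X J₂ Φ₂ U₂ L₂) (hk : k ∉ J₂) :
    Crd cs h X k (Φ₁.noncommCoprod Φ₂ hc) (U₁.prod U₂) (L₁.prod L₂) (fun x => ZU x.1) (fun x => ZL x.1) where
  triv B hB h1 := mul_mem (C.triv B.1 hB.1 h1) (UJ_le_VJ hk (D₂.up' ⟨B.2, hB.2, rfl⟩))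
  ltriv B hB h1 := mul_mem (C.ltriv B.1 hB.1 h1) (UNJ_le_VNJ hk (D₂.lo' ⟨B.2, hB.2, rfl⟩))
  ntriv B hB h1 := by
    obtain ⟨t, ht, ht1, h2⟩ := C.ntriv B.1 hB.1 h1
    refine ⟨(t, 1), ?_, ?_, ?_⟩
    · rw [MonoidHom.noncommCoprod_apply, map_one, mul_one]; exact ht
    · rw [MonoidHom.noncommCoprod_apply, map_one, mul_one]; exact ht1
    · have e : ((t, 1)⁻¹ * B : G₁ × G₂) = (t⁻¹ * B.1, B.2) := by
        ext
        · rfl
        · change (1 : G₂)⁻¹ * B.2 = B.2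
          rw [inv_one, one_mul]
      rw [e]
      exact mul_mem h2 (UJ_le_VJ hk (D₂.up' ⟨B.2, hB.2, rfl⟩))
  lntriv B hB h1 := by
    obtain ⟨t, ht, ht1, h2⟩ := C.lntriv B.1 hB.1 h1
    refine ⟨(t, 1), ?_, ?_, ?_⟩
    · rw [MonoidHom.noncommCoprod_apply, map_one, mul_one]; exact ht
    · rw [MonoidHom.noncommCoprod_apply, map_one, mul_one]; exact ht1
    · have e : ((t, 1)⁻¹ * B : G₁ × G₂) = (t⁻¹ * B.1, B.2) := by
        ext
        · rfl
        · change (1 : G₂)⁻¹ * B.2 = B.2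
          rw [inv_one, one_mul]
      rw [e]
      exact mul_mem h2 (UNJ_le_VNJ hk (D₂.lo' ⟨B.2, hB.2, rfl⟩))

theorem crd_inr {k : I} {ZU ZL : G₂ → Prop} (C : Crd cs h X k Φ₂ U₂ L₂ ZU ZL) {J₁ : Set I}
    (D₁ : AB cs h T X J₁ Φ₁ U₁ L₁) (hk : k ∉ J₁) :
    Crd cs h X k (Φ₁.noncommCoprod Φ₂ hc) (U₁.prod U₂) (L₁.prod L₂) (fun x => ZU x.2) (fun x => ZL x.2) where
  triv B hB h1 := mul_mem (UJ_le_VJ hk (D₁.up' ⟨B.1, hB.1, rfl⟩)) (C.triv B.2 hB.2 h1)
  ltriv B hB h1 := mul_mem (UNJ_le_VNJ hk (D₁.lo' ⟨B.1, hB.1, rfl⟩)) (C.ltriv B.2 hB.2 h1)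
  ntriv B hB h1 := by
    obtain ⟨t, ht, ht1, h2⟩ := C.ntriv B.2 hB.2 h1
    refine ⟨(1, t), ?_, ?_, ?_⟩
    · rw [MonoidHom.noncommCoprod_apply, map_one, one_mul]; exact ht
    · rw [MonoidHom.noncommCoprod_apply, map_one, one_mul]; exact ht1
    · have e : ((1, t)⁻¹ * B : G₁ × G₂) = (B.1, t⁻¹ * B.2) := by
        ext
        · change (1 : G₁)⁻¹ * B.1 = B.1
          rw [inv_one, one_mul]
        · rfl
      rw [e]
      exact mul_mem (UJ_le_VJ hk (D₁.up' ⟨B.1, hB.1, rfl⟩)) h2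
  lntriv B hB h1 := by
    obtain ⟨t, ht, ht1, h2⟩ := C.lntriv B.2 hB.2 h1
    refine ⟨(1, t), ?_, ?_, ?_⟩
    · rw [MonoidHom.noncommCoprod_apply, map_one, one_mul]; exact ht
    · rw [MonoidHom.noncommCoprod_apply, map_one, one_mul]; exact ht1
    · have e : ((1, t)⁻¹ * B : G₁ × G₂) = (B.1, t⁻¹ * B.2) := by
        ext
        · change (1 : G₁)⁻¹ * B.1 = B.1
          rw [inv_one, one_mul]
        · rfl
      rw [e]
      exact mul_mem (UNJ_le_VNJ hk (D₁.lo' ⟨B.1, hB.1, rfl⟩)) h2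

end

end

/-! ### Chevalley groups -/

section

open Cfsg.Lie Cfsg.Agent.ChevalleyStructure Cfsg.Agent.ChevalleyStructure.Elts
  Cfsg.Agent.ChevalleyStructure.RootVec Cfsg.Agent.ChevalleyStructure.NPerm
  Cfsg.Agent.ChevalleyStructure.CoxeterGeomTypes Cfsg.Agent.Nodes.RGDChev Cfsg.Agent.KFacts.RgdChevCoord
  Cfsg.Agent.Nodes.KindChev Cfsg.Agent.Nodes.ChevCls Cfsg.Agent.OddHalf.NI.ModelChev
  Cfsg.Agent.H162.GaussSL Cfsg.Agent.H162.GaussReg Cfsg.Agent.H162.GaussExc Cfsg.Agent.H162.GaussMain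
  Cfsg.Agent.H162.GaussPQ
open Cfsg.Agent.FixBN.FieldRGD (uu vv dd ww)
open Matrix (SpecialLinearGroup)
open Matrix.SpecialLinearGroup (transvection)

universe u

/-- the table of a block of type `A_{n-1}` with the nodes `J` -/
structure TabN (D : ChevalleyDatum) (l : ℕ) (J : List (Fin l)) (n : ℕ) (r : Fin n → Fin n → ℕ) : Prop where
  rlt : ∀ a b, a ≠ b → r a b < D.nroots
  rJ : ∀ a b, a ≠ b → ∀ k, k ∉ J → vec D l (r a b) k = 0
  pos : ∀ a b, a < b → ∀ k, 0 ≤ vec D l (r a b) k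
  neg : ∀ a b, a ≠ b → r b a = D.neg (r a b)
  sub : ∀ q < D.nroots, (∀ k, k ∉ J → vec D l q k = 0) → ∃ a b, a ≠ b ∧ r a b = q

/-- the last part of `TabN` -/
def SubN (D : ChevalleyDatum) (l : ℕ) (J : List (Fin l)) (n : ℕ) (r : Fin n → Fin n → ℕ) : Prop :=
  ∀ q < D.nroots, (∀ k, k ∉ J → vec D l q k = 0) → ∃ a b, a ≠ b ∧ r a b = q

instance (D : ChevalleyDatum) (l : ℕ) (J : List (Fin l)) (n : ℕ) (r : Fin n → Fin n → ℕ) : Decidable (SubN D l J n r) := by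
  unfold SubN
  refine @Nat.decidableBallLT _ _ fun q _ => ?_
  infer_instance

/-- decidable form of `TabN` -/
def ChkN (D : ChevalleyDatum) (l : ℕ) (J : List (Fin l)) (n : ℕ) (r : Fin n → Fin n → ℕ) : Prop :=
  (∀ a b, a ≠ b → r a b < D.nroots) ∧ (∀ a b, a ≠ b → ∀ k, k ∉ J → vec D l (r a b) k = 0) ∧
  (∀ a b, a < b → ∀ k, 0 ≤ vec D l (r a b) k) ∧ (∀ a b, a ≠ b → r b a = D.neg (r a b)) ∧ SubN D l J n r

instance (D : ChevalleyDatum) (l : ℕ) (J : List (Fin l)) (n : ℕ) (r : Fin n → Fin n → ℕ) : Decidable (ChkN D l J n r) := by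
  unfold ChkN; infer_instance

theorem ChkN.tab {D : ChevalleyDatum} {l : ℕ} {J : List (Fin l)} {n : ℕ} {r : Fin n → Fin n → ℕ} (h : ChkN D l J n r) :
    TabN D l J n r := ⟨h.1, h.2.1, h.2.2.1, h.2.2.2.1, h.2.2.2.2⟩

/-- the roots of two blocks are orthogonal -/
def Orth (D : ChevalleyDatum) {n m : ℕ} (r₁ : Fin n → Fin n → ℕ) (r₂ : Fin m → Fin m → ℕ) : Prop :=
  ∀ a b, a ≠ b → ∀ c d, c ≠ d → r₂ c d ≠ r₁ a b ∧ r₂ c d ≠ D.neg (r₁ a b) ∧ D.commTerms (r₁ a b) (r₂ c d) = []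

instance (D : ChevalleyDatum) {n m : ℕ} (r₁ : Fin n → Fin n → ℕ) (r₂ : Fin m → Fin m → ℕ) : Decidable (Orth D r₁ r₂) := by
  unfold Orth; infer_instance

/-- the roots with support in `J` have support in `J₁` or `J₂` -/
def Split (D : ChevalleyDatum) (l : ℕ) (J J₁ J₂ : List (Fin l)) : Prop :=
  ∀ q < D.nroots, (∀ k, k ∉ J → vec D l q k = 0) → (∀ k, k ∉ J₁ → vec D l q k = 0) ∨ (∀ k, k ∉ J₂ → vec D l q k = 0)

instance (D : ChevalleyDatum) (l : ℕ) (J J₁ J₂ : List (Fin l)) : Decidable (Split D l J J₁ J₂) := by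
  unfold Split
  refine @Nat.decidableBallLT _ _ fun q _ => ?_
  infer_instance

variable {D : ChevalleyDatum} {l : ℕ} {M : CoxeterMatrix (Fin l)} (hp : IsType D l M) {K : Type u} [Field K]

include hp in
theorem Split.pos {J J₁ J₂ : List (Fin l)} (h : Split D l J J₁ J₂) :
    ∀ r ∈ PosJ M.toCoxeterSystem hp.isCartan {k | k ∈ J},
      r ∈ PosJ M.toCoxeterSystem hp.isCartan {k | k ∈ J₁} ∨ r ∈ PosJ M.toCoxeterSystem hp.isCartan {k | k ∈ J₂} := by
  intro x hx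
  obtain ⟨q, hq, rfl⟩ := (isRoot_iff hp _ x).1 hx.1
  rcases h q hq hx.2.2 with h1 | h1
  · exact .inl ⟨hx.1, hx.2.1, h1⟩
  · exact .inr ⟨hx.1, hx.2.1, h1⟩

theorem mem_X {q : ℕ} (hq : q < D.nroots) (c : K) : xc hp (vec D l q) c ∈ XX D l K (vec D l q) :=
  (mem_XX hp hq _).2 ⟨_, rfl⟩

/-- commuting blocks -/
theorem comm_blocks {n m : ℕ} {r₁ : Fin n → Fin n → ℕ} {r₂ : Fin m → Fin m → ℕ} (h₁ : ∀ a b, a ≠ b → r₁ a b < D.nroots)
    (h₂ : ∀ a b, a ≠ b → r₂ a b < D.nroots) (ho : Orth D r₁ r₂) {s₁ : Fin n → Fin n → K} {s₂ : Fin m → Fin m → K}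
    {φ₁ : _root_.Matrix.SpecialLinearGroup (Fin n) K →* ↥(D.group K)} {φ₂ : _root_.Matrix.SpecialLinearGroup (Fin m) K →* ↥(D.group K)}
    (hφ₁ : ∀ a b (hab : a ≠ b) c, φ₁ (transvection hab c) = xc hp (vec D l (r₁ a b)) (s₁ a b * c))
    (hφ₂ : ∀ a b (hab : a ≠ b) c, φ₂ (transvection hab c) = xc hp (vec D l (r₂ a b)) (s₂ a b * c)) :
    ∀ x y, Commute (φ₁ x) (φ₂ y) := by
  have key : ∀ a b (hab : a ≠ b) t c d (hcd : c ≠ d) u, Commute (φ₁ (transvection hab t)) (φ₂ (transvection hcd u)) := by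
    intro a b hab t c d hcd u
    obtain ⟨o1, o2, o3⟩ := ho a b hab c d hcd
    rw [hφ₁, hφ₂]
    have h3 := comm_xG hp (K := K) (h₁ a b hab) (h₂ c d hcd) o1 o2 (s₁ a b * t) (s₂ c d * u)
    have h4 : D.commWord K (r₁ a b) (r₂ c d) (s₁ a b * t) (s₂ c d * u) = [] := by
      show (D.commTerms (r₁ a b) (r₂ c d)).map _ = []
      rw [o3, List.map_nil]
    rw [h4, wordG_nil, commutatorElement_def, inv_inv, inv_inv] at h3
    apply Subtype.ext
    change ((xc hp (vec D l (r₁ a b)) (s₁ a b * t) : ↥(D.group K)) : GL D.Idx K) *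
      ((xc hp (vec D l (r₂ c d)) (s₂ c d * u) : ↥(D.group K)) : GL D.Idx K) = _ * _
    rw [coe_xc hp (h₁ a b hab), coe_xc hp (h₂ c d hcd)]
    generalize xG (F := K) hp.inList (r₁ a b) (s₁ a b * t) = A at h3 ⊢
    generalize xG (F := K) hp.inList (r₂ c d) (s₂ c d * u) = B at h3 ⊢
    calc A * B = (B * A) * (A⁻¹ * B⁻¹ * A * B) := by group
      _ = B * A * (B⁻¹ * A⁻¹ * B * A)⁻¹ := by group
      _ = B * A := by rw [h3, inv_one, mul_one]
  have key2 : ∀ a b (hab : a ≠ b) t y, Commute (φ₁ (transvection hab t)) (φ₂ y) := by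
    intro a b hab t y
    have h1 : (⊤ : Subgroup (_root_.Matrix.SpecialLinearGroup (Fin m) K)) ≤ (Subgroup.centralizer {φ₁ (transvection hab t)}).comap φ₂ := by
      rw [← Cfsg.Agent.LieClassical.SLGen.closure_transvections, Subgroup.closure_le]
      rintro _ ⟨c, d, hcd, u, rfl⟩
      exact Subgroup.mem_centralizer_singleton_iff.2 (key a b hab t c d hcd u).symm.eq
    exact (Subgroup.mem_centralizer_singleton_iff.1 (h1 (Subgroup.mem_top y))).symm
  intro x y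
  have h1 : (⊤ : Subgroup (_root_.Matrix.SpecialLinearGroup (Fin n) K)) ≤ (Subgroup.centralizer {φ₂ y}).comap φ₁ := by
    rw [← Cfsg.Agent.LieClassical.SLGen.closure_transvections, Subgroup.closure_le]
    rintro _ ⟨a, b, hab, t, rfl⟩
    exact Subgroup.mem_centralizer_singleton_iff.2 (key2 a b hab t y).eq
  exact Subgroup.mem_centralizer_singleton_iff.1 (h1 (Subgroup.mem_top x))

/-! #### The data of one block -/

section Blocks

variable {J : List (Fin l)} {n : ℕ} {r : Fin n → Fin n → ℕ} (TB : TabN D l J n r)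
  {φ : _root_.Matrix.SpecialLinearGroup (Fin n) K →* ↥(D.group K)} {s : Fin n → Fin n → K} (hs : ∀ a b, s a b ≠ 0)
  (hφ : ∀ a b (hab : a ≠ b) c, φ (transvection hab c) = xc hp (vec D l (r a b)) (s a b * c))

include TB hφ

theorem phi_mem (A : _root_.Matrix.SpecialLinearGroup (Fin n) K) :
    φ A ∈ LJ M.toCoxeterSystem hp.isCartan (TT D K) (XX D l K) {k | k ∈ J} := by
  have h1 : (⊤ : Subgroup (_root_.Matrix.SpecialLinearGroup (Fin n) K)) ≤
      (LJ M.toCoxeterSystem hp.isCartan (TT D K) (XX D l K) {k | k ∈ J}).comap φ := by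
    rw [← Cfsg.Agent.LieClassical.SLGen.closure_transvections, Subgroup.closure_le]
    rintro _ ⟨a, b, hab, c, rfl⟩
    change φ _ ∈ LJ M.toCoxeterSystem hp.isCartan (TT D K) (XX D l K) {k | k ∈ J}
    rw [hφ]
    exact X_le_LJ (J := {k | k ∈ J}) (x := vec D l (r a b)) ⟨isRoot_vec hp _ (TB.rlt a b hab), TB.rJ a b hab⟩
      (mem_X hp (TB.rlt a b hab) _)
  exact h1 (Subgroup.mem_top A)

omit hφ in
include hp in
theorem TabN.lt_of {a b : Fin n} (hab : a ≠ b) (h0 : 0 ≤ vec D l (r a b)) : a < b := by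
  rcases lt_or_gt_of_ne hab with h | h
  · exact h
  · exfalso
    have hr := TB.rlt a b hab
    refine (isRoot_vec hp M.toCoxeterSystem hr).ne_zero (le_antisymm ?_ h0)
    intro k
    have h1 := TB.pos b a h k
    rw [TB.neg a b hab, vec_neg hp hr, Pi.neg_apply] at h1
    exact neg_nonneg.1 h1

include hs

theorem up_phi (x : Fin l → ℤ) (hx : x ∈ PosJ M.toCoxeterSystem hp.isCartan {k | k ∈ J}) :
    XX D l K x ≤ (UT n K).map φ := by
  obtain ⟨q, hq, rfl⟩ := (isRoot_iff hp _ x).1 hx.1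
  obtain ⟨a, b, hab, rfl⟩ := TB.sub q hq hx.2.2
  have hlt := TB.lt_of hp hab hx.2.1
  intro y hy
  obtain ⟨c, rfl⟩ := (mem_XX hp hq y).1 hy
  refine ⟨transvection hab ((s a b)⁻¹ * c), tv_mem_UT hab hlt _, ?_⟩
  rw [hφ, mul_inv_cancel_left₀ (hs a b)]

theorem lo_phi (x : Fin l → ℤ) (hx : x ∈ PosJ M.toCoxeterSystem hp.isCartan {k | k ∈ J}) :
    XX D l K (-x) ≤ (_root_.Cfsg.Agent.H162.GaussSL.LT n K).map φ := by
  obtain ⟨q, hq, rfl⟩ := (isRoot_iff hp _ x).1 hx.1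
  obtain ⟨a, b, hab, rfl⟩ := TB.sub q hq hx.2.2
  have hlt := TB.lt_of hp hab hx.2.1
  rw [← vec_neg hp hq, ← TB.neg a b hab]
  intro y hy
  obtain ⟨c, rfl⟩ := (mem_XX hp (TB.rlt b a hab.symm) y).1 hy
  refine ⟨transvection hab.symm ((s b a)⁻¹ * c), tv_mem_LT hab.symm hlt _, ?_⟩
  rw [hφ, mul_inv_cancel_left₀ (hs b a)]

omit hs

theorem tv_up {a b : Fin n} (hab : a < b) (c : K) :
    φ (transvection hab.ne c) ∈ UJ M.toCoxeterSystem hp.isCartan (XX D l K) {k | k ∈ J} := by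
  rw [hφ]
  exact RGD.le_Sup (S := PosJ M.toCoxeterSystem hp.isCartan {k | k ∈ J})
    ⟨isRoot_vec hp _ (TB.rlt a b hab.ne), TB.pos a b hab, TB.rJ a b hab.ne⟩ (mem_X hp (TB.rlt a b hab.ne) _)

theorem tv_lo {a b : Fin n} (hab : b < a) (c : K) :
    φ (transvection hab.ne' c) ∈ UNJ M.toCoxeterSystem hp.isCartan (XX D l K) {k | k ∈ J} := by
  rw [hφ]
  refine RGD.le_Sup (S := {x | -x ∈ PosJ M.toCoxeterSystem hp.isCartan {k | k ∈ J}})
    (z := vec D l (r a b)) ?_ (mem_X hp (TB.rlt a b hab.ne') _)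
  change -vec D l (r a b) ∈ PosJ M.toCoxeterSystem hp.isCartan {k | k ∈ J}
  rw [← vec_neg hp (TB.rlt a b hab.ne'), ← TB.neg a b hab.ne']
  exact ⟨isRoot_vec hp _ (TB.rlt b a hab.ne), TB.pos b a hab, TB.rJ b a hab.ne⟩

omit TB in
include hp in
theorem tv_ne {a b : Fin n} (hab : a ≠ b) (hr : r a b < D.nroots) (hs : s a b ≠ 0) {c : K} (hc : c ≠ 0) :
    φ (transvection hab c) ≠ 1 := by
  intro h1
  rw [hφ, ← xc_zero hp hr] at h1
  exact (mul_ne_zero hs hc) (xc_inj hp hr h1)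

end Blocks

/-! #### `SL₃` -/

section Three

theorem l01 : (0 : Fin 3) < 1 := by decide

theorem l02 : (0 : Fin 3) < 2 := by decide

theorem l12 : (1 : Fin 3) < 2 := by decide

theorem eq_up3 {B : _root_.Matrix.SpecialLinearGroup (Fin 3) K} (hB : B ∈ UT 3 K) :
    B = transvection l12.ne (B.1 1 2) * transvection l02.ne (B.1 0 2) *
      transvection l01.ne (B.1 0 1) := by
  rw [mem_UT] at hB
  apply Subtype.ext
  change B.1 = (1 + Matrix.single 1 2 (B.1 1 2)) * (1 + Matrix.single 0 2 (B.1 0 2)) * (1 + Matrix.single 0 1 (B.1 0 1))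
  have h00 := hB.2 0
  have h11 := hB.2 1
  have h22 := hB.2 2
  have h10 : B.1 1 0 = 0 := hB.1 _ _ (by decide)
  have h20 : B.1 2 0 = 0 := hB.1 _ _ (by decide)
  have h21 : B.1 2 1 = 0 := hB.1 _ _ (by decide)
  ext i j
  fin_cases i <;> fin_cases j <;>
    simp [Matrix.mul_apply, Fin.sum_univ_three, Matrix.single, h00, h11, h22, h10, h20, h21]

theorem eq_lo3 {B : _root_.Matrix.SpecialLinearGroup (Fin 3) K} (hB : B ∈ LT 3 K) :
    B = transvection l01.ne' (B.1 1 0) * transvection l02.ne' (B.1 2 0) *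
      transvection l12.ne' (B.1 2 1) := by
  rw [mem_LT] at hB
  apply Subtype.ext
  change B.1 = (1 + Matrix.single 1 0 (B.1 1 0)) * (1 + Matrix.single 2 0 (B.1 2 0)) * (1 + Matrix.single 2 1 (B.1 2 1))
  have h00 := hB.2 0
  have h11 := hB.2 1
  have h22 := hB.2 2
  have h01 : B.1 0 1 = 0 := hB.1 _ _ (by decide)
  have h02 : B.1 0 2 = 0 := hB.1 _ _ (by decide)
  have h12 : B.1 1 2 = 0 := hB.1 _ _ (by decide)
  ext i j
  fin_cases i <;> fin_cases j <;>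
    simp [Matrix.mul_apply, Fin.sum_univ_three, Matrix.single, h00, h11, h22, h01, h02, h12]

variable {J : List (Fin l)} {r : Fin 3 → Fin 3 → ℕ} (TB : TabN D l J 3 r)
  {φ : _root_.Matrix.SpecialLinearGroup (Fin 3) K →* ↥(D.group K)} {s : Fin 3 → Fin 3 → K} (hs : ∀ a b, s a b ≠ 0)
  (hφ : ∀ a b (hab : a ≠ b) c, φ (transvection hab c) = xc hp (vec D l (r a b)) (s a b * c))

include TB hs hφ

theorem ab_three : AB M.toCoxeterSystem hp.isCartan (TT D K) (XX D l K) {k | k ∈ J} φ (UT 3 K) (LT 3 K) where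
  range := phi_mem hp TB hφ
  up := up_phi hp TB hs hφ
  lo := lo_phi hp TB hs hφ
  up' := by
    rintro _ ⟨B, hB, rfl⟩
    rw [eq_up3 hB, map_mul, map_mul]
    exact mul_mem (mul_mem (tv_up hp TB hφ l12 _) (tv_up hp TB hφ l02 _)) (tv_up hp TB hφ l01 _)
  lo' := by
    rintro _ ⟨B, hB, rfl⟩
    rw [eq_lo3 hB, map_mul, map_mul]
    exact mul_mem (mul_mem (tv_lo hp TB hφ l01 _) (tv_lo hp TB hφ l02 _)) (tv_lo hp TB hφ l12 _)

omit hs in
theorem tv_VJ {a b : Fin 3} (hab : a < b) {k : Fin l} (hx : ∃ j, j ≠ k ∧ 0 < vec D l (r a b) j) (c : K) :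
    φ (transvection hab.ne c) ∈ VJ M.toCoxeterSystem hp.isCartan (XX D l K) {k} := by
  rw [hφ]
  exact RGD.le_Sup (S := NotJ M.toCoxeterSystem hp.isCartan {k}) (z := vec D l (r a b))
    ⟨isRoot_vec hp _ (TB.rlt a b hab.ne), TB.pos a b hab, hx⟩ (mem_X hp (TB.rlt a b hab.ne) _)

omit hs in
theorem tv_VNJ {a b : Fin 3} (hab : a < b) {k : Fin l} (hx : ∃ j, j ≠ k ∧ 0 < vec D l (r a b) j) (c : K) :
    φ (transvection hab.ne' c) ∈ VNJ M.toCoxeterSystem hp.isCartan (XX D l K) {k} := by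
  rw [hφ]
  refine RGD.le_Sup (S := NotNJ M.toCoxeterSystem hp.isCartan {k}) (z := vec D l (r b a)) ?_
    (mem_X hp (TB.rlt b a hab.ne') _)
  change -vec D l (r b a) ∈ NotJ M.toCoxeterSystem hp.isCartan {k}
  rw [← vec_neg hp (TB.rlt b a hab.ne'), ← TB.neg b a hab.ne']
  exact ⟨isRoot_vec hp _ (TB.rlt a b hab.ne), TB.pos a b hab, hx⟩

/-- the coordinate at the second simple root of an `SL₃` block -/
theorem crd_three {k : Fin l} (h12 : r 1 2 = D.simple k) (hx : ∃ j, j ≠ k ∧ 0 < vec D l (r 0 1) j)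
    (hy : ∃ j, j ≠ k ∧ 0 < vec D l (r 0 2) j) :
    Crd M.toCoxeterSystem hp.isCartan (XX D l K) k φ (UT 3 K) (LT 3 K) (fun B => B.1 1 2 = 0) (fun B => B.1 2 1 = 0) := by
  have tr : ∀ B ∈ UT 3 K, B.1 1 2 = 0 → φ B ∈ VJ M.toCoxeterSystem hp.isCartan (XX D l K) {k} := by
    intro B hB h0
    rw [eq_up3 hB, h0, map_mul, map_mul]
    refine mul_mem (mul_mem ?_ (tv_VJ hp TB hφ l02 hy _)) (tv_VJ hp TB hφ l01 hx _)
    rw [hφ, mul_zero, xc_zero hp (TB.rlt 1 2 (by decide))]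
    exact one_mem _
  have ltr : ∀ B ∈ LT 3 K, B.1 2 1 = 0 → φ B ∈ VNJ M.toCoxeterSystem hp.isCartan (XX D l K) {k} := by
    intro B hB h0
    rw [eq_lo3 hB, h0, map_mul, map_mul]
    refine mul_mem (mul_mem (tv_VNJ hp TB hφ l01 hx _) (tv_VNJ hp TB hφ l02 hy _)) ?_
    rw [hφ, mul_zero, xc_zero hp (TB.rlt 2 1 (by decide))]
    exact one_mem _
  refine ⟨tr, fun B hB h0 => ?_, ltr, fun B hB h0 => ?_⟩
  · refine ⟨transvection l12.ne (B.1 1 2), ?_, tv_ne hp hφ _ (TB.rlt 1 2 (by decide)) (hs 1 2) h0,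
      tr _ (mul_mem (inv_mem (tv_mem_UT _ (by decide) _)) hB) ?_⟩
    · rw [hφ, h12, vec_simple hp k, ← vec_simple hp k]
      exact mem_X hp (_root_.Cfsg.Agent.ChevalleyStructure.NPerm.simple_lt hp.inList (lt_rank hp k)) _
    · rw [mem_UT] at hB
      rw [Matrix.SpecialLinearGroup.transvection_inv]
      change ((1 + Matrix.single 1 2 (-(B.1 1 2)) : Matrix (Fin 3) (Fin 3) K) * B.1) 1 2 = 0
      have h22 := hB.2 2
      simp only [Matrix.mul_apply, Fin.sum_univ_three, Matrix.single, h22, _root_.Fin.isValue, _root_.Matrix.add_apply, _root_.Matrix.of_apply, _root_.true_and, _root_.ne_eq, _root_.one_ne_zero, _root_.not_false_eq_true, _root_.Matrix.one_apply_ne, _root_.Fin.reduceEq, ↓ _root_.reduceIte, _root_.add_zero, _root_.MulZeroClass.zero_mul, _root_.Matrix.one_apply_eq, _root_.one_mul, _root_.zero_add, _root_.mul_one, _root_.add_neg_cancel]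
  · refine ⟨transvection l12.ne' (B.1 2 1), ?_, tv_ne hp hφ _ (TB.rlt 2 1 (by decide)) (hs 2 1) h0,
      ltr _ (mul_mem (inv_mem (tv_mem_LT _ (by decide) _)) hB) ?_⟩
    · have h1 := TB.neg 1 2 (by decide)
      have h2 := _root_.Cfsg.Agent.ChevalleyStructure.NPerm.simple_lt hp.inList (lt_rank hp k)
      rw [hφ, h1, h12, vec_neg hp h2, ← vec_neg hp h2]
      rw [← vec_simple hp k, ← vec_neg hp h2]
      exact mem_X hp (_root_.Cfsg.Agent.ChevalleyStructure.NPerm.neg_lt hp.inList h2) _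
    · rw [mem_LT] at hB
      rw [Matrix.SpecialLinearGroup.transvection_inv]
      change ((1 + Matrix.single 2 1 (-(B.1 2 1)) : Matrix (Fin 3) (Fin 3) K) * B.1) 2 1 = 0
      have h11 := hB.2 1
      simp only [Matrix.mul_apply, Fin.sum_univ_three, Matrix.single, h11, _root_.Fin.isValue, _root_.Matrix.add_apply, _root_.Matrix.of_apply, _root_.true_and, _root_.ne_eq, _root_.Fin.reduceEq, _root_.not_false_eq_true, _root_.Matrix.one_apply_ne, _root_.one_ne_zero, ↓ _root_.reduceIte, _root_.add_zero, _root_.MulZeroClass.zero_mul, _root_.zero_add, _root_.mul_one, _root_.Matrix.one_apply_eq, _root_.one_mul, _root_.neg_add_cancel]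

end Three

/-! #### `SL₂` -/

section Two

theorem m01 : (0 : Fin 2) < 1 := by decide

theorem tv_uu (c : K) : transvection m01.ne c = (uu c : _root_.Matrix.SpecialLinearGroup (Fin 2) K) := by
  apply Subtype.ext
  ext i j
  (revert i j; simp only [Matrix.SpecialLinearGroup.transvection, Matrix.transvection, uu, _root_.Fin.forall_fin_succ, Fin.isValue, _root_.Matrix.add_apply, _root_.Matrix.of_apply, _root_.Matrix.cons_val', _root_.Matrix.cons_val_fin_one, _root_.one_ne_zero, _root_.and_false, _root_.not_false_eq_true, _root_.Matrix.single_apply_of_ne, _root_.add_zero, _root_.Matrix.cons_val_zero, _root_.Matrix.cons_val_succ, _root_.Fin.succ_zero_eq_one, _root_.IsEmpty.forall_iff, _root_.and_true, _root_.Matrix.one_apply_eq, Nat.reduceAdd, _root_.ne_eq, _root_.zero_ne_one, _root_.Matrix.one_apply_ne, _root_.Matrix.single_apply_same, _root_.zero_add, _root_.and_self, _root_.Fin.succ_ne_zero, _root_.true_and])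

theorem tv_vv (c : K) : transvection m01.ne' c = (vv c : _root_.Matrix.SpecialLinearGroup (Fin 2) K) := by
  apply Subtype.ext
  ext i j
  (revert i j; simp only [Matrix.SpecialLinearGroup.transvection, Matrix.transvection, vv, _root_.Fin.forall_fin_succ, Fin.isValue, _root_.Matrix.add_apply, _root_.Matrix.of_apply, _root_.Matrix.cons_val', _root_.Matrix.cons_val_fin_one, _root_.Matrix.cons_val_zero, _root_.Matrix.cons_val_succ, _root_.Fin.succ_zero_eq_one, _root_.zero_ne_one, _root_.and_false, _root_.not_false_eq_true, _root_.Matrix.single_apply_of_ne, _root_.add_zero, _root_.IsEmpty.forall_iff, _root_.and_true, _root_.Matrix.one_apply_eq, _root_.one_ne_zero, Nat.reduceAdd, _root_.ne_eq, _root_.Matrix.one_apply_ne, _root_.and_self, _root_.Fin.succ_ne_zero, _root_.zero_add, _root_.Matrix.single_apply_same])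

theorem eq_up2 {B : _root_.Matrix.SpecialLinearGroup (Fin 2) K} (hB : B ∈ UT 2 K) : B = transvection m01.ne (B.1 0 1) := by
  rw [mem_UT] at hB
  rw [tv_uu]
  apply Subtype.ext
  have h00 := hB.2 0
  have h11 := hB.2 1
  have h10 : B.1 1 0 = 0 := hB.1 _ _ (by decide)
  ext i j
  (revert i j; simp only [uu, h00, h11, h10, _root_.Fin.forall_fin_succ, Fin.isValue, _root_.Matrix.of_apply, _root_.Matrix.cons_val', _root_.Matrix.cons_val_fin_one, _root_.Matrix.cons_val_zero, _root_.Matrix.cons_val_succ, _root_.Fin.succ_zero_eq_one, _root_.IsEmpty.forall_iff, _root_.and_true, _root_.and_self])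

theorem eq_lo2 {B : _root_.Matrix.SpecialLinearGroup (Fin 2) K} (hB : B ∈ LT 2 K) : B = transvection m01.ne' (B.1 1 0) := by
  rw [mem_LT] at hB
  rw [tv_vv]
  apply Subtype.ext
  have h00 := hB.2 0
  have h11 := hB.2 1
  have h01 : B.1 0 1 = 0 := hB.1 _ _ (by decide)
  ext i j
  (revert i j; simp only [vv, h00, h11, h01, _root_.Fin.forall_fin_succ, Fin.isValue, _root_.Matrix.of_apply, _root_.Matrix.cons_val', _root_.Matrix.cons_val_fin_one, _root_.Matrix.cons_val_zero, _root_.Matrix.cons_val_succ, _root_.Fin.succ_zero_eq_one, _root_.IsEmpty.forall_iff, _root_.and_true, _root_.and_self])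

/-- the table of a node -/
def nd (D : ChevalleyDatum) (i : ℕ) : Fin 2 → Fin 2 → ℕ := ![![0, D.simple i], ![D.neg (D.simple i), 0]]

/-- the homomorphism of a node -/
theorem sl_tv (i : Fin l) (a b : Fin 2) (hab : a ≠ b) (c : K) :
    sl hp i (transvection hab c) = xc hp (vec D l (nd D i a b)) ((fun _ _ => (1 : K)) a b * c) := by
  rw [one_mul]
  fin_cases a <;> fin_cases b
  · exact absurd rfl hab
  · change sl hp i (transvection m01.ne c) = xc hp (vec D l (D.simple i)) c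
    rw [tv_uu, sl_uu, vec_simple hp i]
  · change sl hp i (transvection m01.ne' c) = xc hp (vec D l (D.neg (D.simple i))) c
    rw [tv_vv, sl_vv, vec_neg hp (_root_.Cfsg.Agent.ChevalleyStructure.NPerm.simple_lt hp.inList (lt_rank hp i)), vec_simple hp i]
  · exact absurd rfl hab

variable {J : List (Fin l)} {r : Fin 2 → Fin 2 → ℕ} (TB : TabN D l J 2 r)
  {φ : _root_.Matrix.SpecialLinearGroup (Fin 2) K →* ↥(D.group K)} {s : Fin 2 → Fin 2 → K} (hs : ∀ a b, s a b ≠ 0)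
  (hφ : ∀ a b (hab : a ≠ b) c, φ (transvection hab c) = xc hp (vec D l (r a b)) (s a b * c))

include hs hφ

include TB in
theorem ab_two : AB M.toCoxeterSystem hp.isCartan (TT D K) (XX D l K) {k | k ∈ J} φ (UT 2 K) (LT 2 K) where
  range := phi_mem hp TB hφ
  up := up_phi hp TB hs hφ
  lo := lo_phi hp TB hs hφ
  up' := by
    rintro _ ⟨B, hB, rfl⟩
    rw [eq_up2 hB]
    exact tv_up hp TB hφ m01 _
  lo' := by
    rintro _ ⟨B, hB, rfl⟩
    rw [eq_lo2 hB]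
    exact tv_lo hp TB hφ m01 _

/-- the coordinate of an `SL₂` block -/
theorem crd_two {k : Fin l} (h01 : r 0 1 = D.simple k) (h10 : r 1 0 = D.neg (D.simple k)) :
    Crd M.toCoxeterSystem hp.isCartan (XX D l K) k φ (UT 2 K) (LT 2 K) (fun B => B.1 0 1 = 0) (fun B => B.1 1 0 = 0) := by
  have h2 := _root_.Cfsg.Agent.ChevalleyStructure.NPerm.simple_lt hp.inList (lt_rank hp k)
  have h3 := _root_.Cfsg.Agent.ChevalleyStructure.NPerm.neg_lt hp.inList h2
  refine ⟨fun B hB h0 => ?_, fun B hB h0 => ?_, fun B hB h0 => ?_, fun B hB h0 => ?_⟩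
  · rw [eq_up2 hB, hφ, h0, mul_zero, h01, xc_zero hp h2]
    exact one_mem _
  · refine ⟨B, ?_, ?_, ?_⟩
    · rw [eq_up2 hB, hφ, h01, vec_simple hp k, ← vec_simple hp k]
      exact mem_X hp h2 _
    · rw [eq_up2 hB]
      exact tv_ne hp hφ _ (by rw [h01]; exact h2) (hs 0 1) h0
    · rw [inv_mul_cancel, map_one]
      exact one_mem _
  · rw [eq_lo2 hB, hφ, h0, mul_zero, h10, xc_zero hp h3]
    exact one_mem _
  · refine ⟨B, ?_, ?_, ?_⟩
    · rw [eq_lo2 hB, hφ, h10, ← vec_simple hp k, ← vec_neg hp h2]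
      exact mem_X hp h3 _
    · rw [eq_lo2 hB]
      exact tv_ne hp hφ _ (by rw [h10]; exact h3) (hs 1 0) h0
    · rw [inv_mul_cancel, map_one]
      exact one_mem _

end Two

/-! #### The end -/

/-- from the elements outside the core to all elements -/
theorem all_of [Finite K] (p : ℕ) [Fact p.Prime] [CharP K p] [Nonempty (Fin l)]
    (hG : IsSimpleGroup ↥(D.group K) ∧ ¬ IsMulCommutative ↥(D.group K)) {P : ↥(D.group K) → Prop}
    (h : ∀ g, g ∉ (RGD.B M.toCoxeterSystem hp.isCartan (TT D K) (XX D l K)).normalCore ∨ g = 1 → P g) (g : ↥(D.group K)) :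
    P g := by
  have := hG.1
  have := finite_W hp M.toCoxeterSystem
  refine h g ?_
  by_cases hg : g = 1
  · exact .inr hg
  · refine .inl fun h1 => hg ?_
    have h2 := core_le_ker (rgd (K := K) hp M.toCoxeterSystem p) (MonoidHom.id ↥(D.group K)) Function.surjective_id
      (fun x hx => by
        rw [MonoidHom.mem_ker] at hx
        change x = 1 at hx
        rw [hx]
        exact one_mem _) h1
    exact h2

end

end Cfsg.Agent.H584.Ore.Build
end
end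

-- part: H584/Ore/ESix
section
set_option linter.all false
open scoped Cfsg.Agent.FastGrp

/-!
# `E₆(2)` : every element is a commutator and a product of four elements of square one (S2443, S4171)

`J` = nodes `{3, 1}`, `{0}`, `{5}` (block `SL₃ × SL₂ × SL₂`), `K` = nodes `{2, 0}`, `{4, 5}` (block `SL₃ × SL₃`),
side condition at the nodes `0` and `5`.
-/

set_option autoImplicit false
set_option linter.unusedSectionVars false

namespace Cfsg.Agent.H584.Ore.ESix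

open CoxeterSystem Cfsg.Agent.ChevalleyStructure.CoxeterGeom Cfsg.Agent.Tits.Roots Cfsg.Agent.Tits.Core
  Cfsg.Agent.Nodes.Reps
  Cfsg.Agent.Nodes.BNOf Cfsg.Agent.Nodes.StabComb
  Cfsg.Agent.Nodes.RGDLib Cfsg.Agent.Nodes.Bruhat Cfsg.Agent.Nodes.OppDec Cfsg.Agent.Nodes.LeviDec
  Cfsg.Agent.OddHalf.NI.Mult
  Cfsg.Agent.H162.GaussDec Cfsg.Agent.H162.GaussLevi Cfsg.Agent.H584.Ore.Engine Cfsg.Agent.H584.Ore.Par
  Cfsg.Agent.H584.Ore.Build Cfsg.Agent.H584.Ore.Tab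
open Cfsg.Lie Cfsg.Agent.ChevalleyStructure Cfsg.Agent.ChevalleyStructure.Elts
  Cfsg.Agent.ChevalleyStructure.RootVec Cfsg.Agent.ChevalleyStructure.NPerm
  Cfsg.Agent.ChevalleyStructure.CoxeterGeomTypes Cfsg.Agent.Nodes.RGDChev Cfsg.Agent.KFacts.RgdChevCoord
  Cfsg.Agent.Nodes.KindChev Cfsg.Agent.Nodes.ChevCls Cfsg.Agent.OddHalf.NI.ModelChev
  Cfsg.Agent.H162.GaussSL Cfsg.Agent.H162.GaussReg Cfsg.Agent.H162.GaussExc Cfsg.Agent.H162.GaussMain
  Cfsg.Agent.H162.GaussPQ Cfsg.Agent.H162.GaussExcMain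
open Cfsg.Agent.TitsThree.KExcRT Cfsg.Agent.Nodes.KindE
open Matrix (SpecialLinearGroup)
open Matrix.SpecialLinearGroup (transvection)

/-- the nodes `2`, `0` -/
def rA : Fin 3 → Fin 3 → ℕ := ![![0, 42, 57], ![29, 0, 56], ![14, 15, 0]]

/-- the nodes `4`, `5` -/
def rB : Fin 3 → Fin 3 → ℕ := ![![0, 37, 38], ![34, 0, 36], ![33, 35, 0]]

theorem chkJ1 : ChkN chevE6 6 [3, 1] 3 r6 := by decide +kernel

theorem chkJ2 : ChkN chevE6 6 [0] 2 (nd chevE6 0) := by decide +kernel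

theorem chkJ3 : ChkN chevE6 6 [5] 2 (nd chevE6 5) := by decide +kernel

theorem chkA : ChkN chevE6 6 [2, 0] 3 rA := by decide +kernel

theorem chkB : ChkN chevE6 6 [4, 5] 3 rB := by decide +kernel

theorem o1 : Orth chevE6 (nd chevE6 0) (nd chevE6 5) := by decide +kernel

theorem o2 : Orth chevE6 r6 (nd chevE6 0) := by decide +kernel

theorem o3 : Orth chevE6 r6 (nd chevE6 5) := by decide +kernel

theorem o4 : Orth chevE6 rA rB := by decide +kernel

theorem s1 : Split chevE6 6 [3, 1, 0, 5] [3, 1] [0, 5] := by decide +kernel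

theorem s2 : Split chevE6 6 [0, 5] [0] [5] := by decide +kernel

theorem s3 : Split chevE6 6 [2, 0, 4, 5] [2, 0] [4, 5] := by decide +kernel

theorem rtA : RTa chevE6 rA ∧ (RTb chevE6 rA fun _ _ => 1) ∧ RTc chevE6 rA ∧
    ∀ i j, i ≠ j → rA j i = chevE6.neg (rA i j) := by decide +kernel

theorem rtB : RTa chevE6 rB ∧ (RTb chevE6 rB fun _ _ => -1) ∧ RTc chevE6 rB ∧
    ∀ i j, i ≠ j → rB j i = chevE6.neg (rB i j) := by decide +kernel

theorem sA : rA 1 2 = chevE6.simple 0 ∧ rB 1 2 = chevE6.simple 5 ∧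
    (∃ j : Fin 6, j ≠ 0 ∧ 0 < vec chevE6 6 (rA 0 1) j) ∧ (∃ j : Fin 6, j ≠ 0 ∧ 0 < vec chevE6 6 (rA 0 2) j) ∧
    (∃ j : Fin 6, j ≠ 5 ∧ 0 < vec chevE6 6 (rB 0 1) j) ∧ (∃ j : Fin 6, j ≠ 5 ∧ 0 < vec chevE6 6 (rB 0 2) j) := by
  decide +kernel

section

variable {φ : SpecialLinearGroup (Fin 3) (ZMod 2) →* ↥(chevE6.group (ZMod 2))}
  (hφ : ∀ a b (hab : a ≠ b) c, φ (transvection hab c) = xc isType6 (vec chevE6 6 (r6 a b)) (((1 : ℤ) : ZMod 2) * c))

include hφ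

/-- **The square theorem for `E₆(2)`** from the fixed points and the reality of `c₀`. -/
theorem square {z : ↥(chevE6.group (ZMod 2))}
    (hz : z * (φ XX0 * (sl isType6 0 w * sl isType6 5 w)) * z⁻¹ = (φ XX0 * (sl isType6 0 w * sl isType6 5 w))⁻¹)
    (hP : ∀ x ∈ VJ CoxeterMatrix.E₆.toCoxeterSystem isType6.isCartan (XX chevE6 6 (ZMod 2)) {0, 1, 3, 5},
      (φ XX0 * (sl isType6 0 w * sl isType6 5 w)) * x * (φ XX0 * (sl isType6 0 w * sl isType6 5 w))⁻¹ = x → x = 1)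
    (hN : ∀ x ∈ VNJ CoxeterMatrix.E₆.toCoxeterSystem isType6.isCartan (XX chevE6 6 (ZMod 2)) {0, 1, 3, 5},
      (φ XX0 * (sl isType6 0 w * sl isType6 5 w)) * x * (φ XX0 * (sl isType6 0 w * sl isType6 5 w))⁻¹ = x → x = 1)
    (g : ↥(chevE6.group (ZMod 2))) : ∃ x y : ↥(chevE6.group (ZMod 2)),
      g = (x * (φ XX0 * (sl isType6 0 w * sl isType6 5 w)) * x⁻¹) * (y * (φ XX0 * (sl isType6 0 w * sl isType6 5 w)) * y⁻¹) := by
  have := finite_W isType6 CoxeterMatrix.E₆.toCoxeterSystem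
  have eJ : ({0, 1, 3, 5} : Set (Fin 6)) = {k | k ∈ ([3, 1, 0, 5] : List (Fin 6))} := by
    ext k
    fin_cases k <;> simp
  rw [eJ] at hP hN
  -- the homomorphisms
  obtain ⟨φA, hφA⟩ := exists_hom_D isType6 (K := ZMod 2) (ε := 1) (by norm_num) rtA.1 rtA.2.1 rtA.2.2.1 rtA.2.2.2
  obtain ⟨φB, hφB⟩ := exists_hom_D isType6 (K := ZMod 2) (ε := -1) (by norm_num) rtB.1 rtB.2.1 rtB.2.2.1 rtB.2.2.2
  have hs1 : ∀ a b : Fin 3, (fun _ _ : Fin 3 => ((1 : ℤ) : ZMod 2)) a b ≠ 0 := fun _ _ =>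
    (by decide : ((1 : ℤ) : ZMod 2) ≠ 0)
  have hs2 : ∀ a b : Fin 3, (fun _ _ : Fin 3 => ((-1 : ℤ) : ZMod 2)) a b ≠ 0 := fun _ _ =>
    (by decide : ((-1 : ℤ) : ZMod 2) ≠ 0)
  have hs3 : ∀ a b : Fin 2, (fun _ _ : Fin 2 => (1 : ZMod 2)) a b ≠ 0 := fun _ _ => one_ne_zero
  have T1 := chkJ1.tab
  have T2 := chkJ2.tab
  have T3 := chkJ3.tab
  have TA := chkA.tab
  have TB := chkB.tab
  have hφ' : ∀ a b (hab : a ≠ b) c, φ (transvection hab c) =
      xc isType6 (vec chevE6 6 (r6 a b)) ((fun _ _ : Fin 3 => ((1 : ℤ) : ZMod 2)) a b * c) := hφ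
  have hφA' : ∀ a b (hab : a ≠ b) c, φA (transvection hab c) =
      xc isType6 (vec chevE6 6 (rA a b)) ((fun _ _ : Fin 3 => ((1 : ℤ) : ZMod 2)) a b * c) := hφA
  have hφB' : ∀ a b (hab : a ≠ b) c, φB (transvection hab c) =
      xc isType6 (vec chevE6 6 (rB a b)) ((fun _ _ : Fin 3 => ((-1 : ℤ) : ZMod 2)) a b * c) := hφB
  have D1 := ab_three isType6 T1 hs1 hφ'
  have D2 := ab_two isType6 T2 hs3 (sl_tv isType6 0)
  have D3 := ab_two isType6 T3 hs3 (sl_tv isType6 5)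
  have DA := ab_three isType6 TA hs1 hφA'
  have DB := ab_three isType6 TB hs2 hφB'
  have c05 := comm_blocks isType6 T2.rlt T3.rlt o1 (sl_tv isType6 (K := ZMod 2) 0) (sl_tv isType6 5)
  have c10 := comm_blocks isType6 T1.rlt T2.rlt o2 hφ' (sl_tv isType6 0)
  have c15 := comm_blocks isType6 T1.rlt T3.rlt o3 hφ' (sl_tv isType6 5)
  have cAB := comm_blocks isType6 TA.rlt TB.rlt o4 hφA' hφB'
  have cJ : ∀ a b, Commute (φ a) ((sl isType6 0).noncommCoprod (sl isType6 5) c05 b) := fun a b => by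
    rw [MonoidHom.noncommCoprod_apply]
    exact (c10 a b.1).mul_right (c15 a b.2)
  have D23 := ab_prod (J := {k | k ∈ ([0, 5] : List (Fin 6))}) c05 D2 D3
    (by intro k; simp only [Set.mem_ofPred_eq, List.mem_cons, List.not_mem_nil, or_false]; intro h; exact .inl h)
    (by intro k; simp only [Set.mem_ofPred_eq, List.mem_cons, List.not_mem_nil, or_false]; intro h; exact .inr h)
    (s2.pos isType6)
  have DJ := ab_prod (J := {k | k ∈ ([3, 1, 0, 5] : List (Fin 6))}) cJ D1 D23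
    (by
      intro k
      simp only [Set.mem_ofPred_eq, List.mem_cons, List.not_mem_nil, or_false]
      rintro (h | h)
      · exact .inl h
      · exact .inr (.inl h))
    (by
      intro k
      simp only [Set.mem_ofPred_eq, List.mem_cons, List.not_mem_nil, or_false]
      intro h; exact .inr (.inr h))
    (s1.pos isType6)
  have DK := ab_prod (J := {k | k ∈ ([2, 0, 4, 5] : List (Fin 6))}) cAB DA DB
    (by
      intro k
      simp only [Set.mem_ofPred_eq, List.mem_cons, List.not_mem_nil, or_false]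
      rintro (h | h)
      · exact .inl h
      · exact .inr (.inl h))
    (by
      intro k
      simp only [Set.mem_ofPred_eq, List.mem_cons, List.not_mem_nil, or_false]
      intro h; exact .inr (.inr h))
    (s3.pos isType6)
  -- the coordinates
  have n05 : (0 : Fin 6) ∉ {k | k ∈ ([5] : List (Fin 6))} := by decide
  have n50 : (5 : Fin 6) ∉ {k | k ∈ ([0] : List (Fin 6))} := by decide
  have n0 : (0 : Fin 6) ∉ {k | k ∈ ([3, 1] : List (Fin 6))} := by decide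
  have n5 : (5 : Fin 6) ∉ {k | k ∈ ([3, 1] : List (Fin 6))} := by decide
  have n0B : (0 : Fin 6) ∉ {k | k ∈ ([4, 5] : List (Fin 6))} := by decide
  have n5A : (5 : Fin 6) ∉ {k | k ∈ ([2, 0] : List (Fin 6))} := by decide
  have CJ0 := crd_inr cJ (crd_inl c05 (crd_two isType6 hs3 (sl_tv isType6 (K := ZMod 2) 0) (k := 0) rfl rfl) D3 n05) D1 n0
  have CJ5 := crd_inr cJ (crd_inr c05 (crd_two isType6 hs3 (sl_tv isType6 (K := ZMod 2) 5) (k := 5) rfl rfl) D2 n50) D1 n5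
  have CK0 := crd_inl cAB (crd_three isType6 TA hs1 hφA' (k := 0) sA.1 sA.2.2.1 sA.2.2.2.1) DB n0B
  have CK5 := crd_inr cAB (crd_three isType6 TB hs2 hφB' (k := 5) sA.2.1 sA.2.2.2.2.1 sA.2.2.2.2.2) DA n5A
  have h0 : ((φ.noncommCoprod ((sl isType6 0).noncommCoprod (sl isType6 5) c05) cJ) (XX0, (w, w)) :
      ↥(chevE6.group (ZMod 2))) = φ XX0 * (sl isType6 0 w * sl isType6 5 w) := by
    rw [MonoidHom.noncommCoprod_apply, MonoidHom.noncommCoprod_apply]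
  rw [← h0] at hz hP hN ⊢
  refine all_of isType6 2 (Cfsg.Agent.S1054.result chevE6 (by simp)) (P := fun g => ∃ x y : ↥(chevE6.group (ZMod 2)),
    g = (x * (φ.noncommCoprod ((sl isType6 0).noncommCoprod (sl isType6 5) c05) cJ) (XX0, (w, w)) * x⁻¹) *
      (y * (φ.noncommCoprod ((sl isType6 0).noncommCoprod (sl isType6 5) c05) cJ) (XX0, (w, w)) * y⁻¹)) (fun g hg => ?_) g
  refine square_par (rgd (K := ZMod 2) isType6 CoxeterMatrix.E₆.toCoxeterSystem 2) (G1_eq_top isType6 _)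
    (coord isType6) (Cfsg.Agent.Nodes.ChevChart.irr_of Cfsg.Agent.Nodes.ChevChart.irr6) (S := {0, 5}) ?_ ?_ DJ DK
    (ZU := fun k B => if k = 0 then B.2.1.1 0 1 = 0 else B.2.2.1 0 1 = 0)
    (ZL := fun k B => if k = 0 then B.2.1.1 1 0 = 0 else B.2.2.1 1 0 = 0)
    (ZU' := fun k B => if k = 0 then B.1.1 1 2 = 0 else B.2.1 1 2 = 0)
    (ZL' := fun k B => if k = 0 then B.1.1 2 1 = 0 else B.2.1 2 1 = 0) ?_ ?_ ?_ (c₀ := (XX0, (w, w))) ?_ hP hN ⟨z, hz⟩ hg
  · rintro k (rfl | rfl) <;> decide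
  · rintro k (rfl | rfl) <;> decide
  · rintro k (rfl | rfl)
    · exact CJ0
    · exact CJ5
  · rintro k (rfl | rfl)
    · exact CK0
    · exact CK5
  · rintro ⟨L, L'⟩ ⟨hL, hL'⟩ ⟨U, U'⟩ ⟨hU, hU'⟩
    obtain ⟨y, L₁, hL₁, U₁, hU₁, e1, e2⟩ := parity hL hU
    obtain ⟨y', L₂, hL₂, U₂, hU₂, e3, e4⟩ := parity hL' hU'
    refine ⟨(y, y'), (L₁, L₂), ⟨hL₁, hL₂⟩, (U₁, U₂), ⟨hU₁, hU₂⟩, Prod.ext e1 e3, ?_⟩
    rintro k (rfl | rfl)
    · exact e2
    · exact e4
  · rintro ⟨L, l, l'⟩ ⟨hL, hl, hl'⟩ ⟨U, u, u'⟩ ⟨hU, hu, hu'⟩ hpar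
    exact prod_pair real_ww hL hU (prod_three_two hl hu (hpar 0 (.inl rfl)) hl' hu' (hpar 5 (.inr rfl)))

end

/-! ### From the square to the two statements -/

section

variable {G : Type*} [Group G] {c z : G} (hz : z * c * z⁻¹ = c⁻¹) (h : ∀ g : G, ∃ x y : G, g = (x * c * x⁻¹) * (y * c * y⁻¹))

include hz h

theorem allC_of : Cfsg.Agent.H777.Ore.AllC G := by
  intro g
  obtain ⟨x, y, e⟩ := h g
  refine ⟨x * c * x⁻¹, y * z⁻¹ * x⁻¹, ?_⟩
  have h1 : c = z⁻¹ * c⁻¹ * z := by rw [← hz]; group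
  rw [e]
  calc x * c * x⁻¹ * (y * c * y⁻¹) = x * c * x⁻¹ * (y * (z⁻¹ * c⁻¹ * z) * y⁻¹) := by rw [← h1]
    _ = _ := by group

theorem inv4_of (hz2 : z * z = 1) : Cfsg.Agent.H777.Ore.Inv4 G := by
  intro g
  obtain ⟨x, y, e⟩ := h g
  have hzi : z⁻¹ = z := inv_eq_of_mul_eq_one_left hz2
  have h1 : (z * c) * (z * c) = 1 := by
    calc (z * c) * (z * c) = (z * c * z⁻¹) * (z * z) * c := by group
      _ = 1 := by rw [hz, hz2]; group
  refine ⟨x * z * x⁻¹, x * (z * c) * x⁻¹, y * z * y⁻¹, y * (z * c) * y⁻¹, ?_, ?_, ?_, ?_, ?_⟩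
  · calc x * z * x⁻¹ * (x * z * x⁻¹) = x * (z * z) * x⁻¹ := by group
      _ = 1 := by rw [hz2]; group
  · calc x * (z * c) * x⁻¹ * (x * (z * c) * x⁻¹) = x * ((z * c) * (z * c)) * x⁻¹ := by group
      _ = 1 := by rw [h1]; group
  · calc y * z * y⁻¹ * (y * z * y⁻¹) = y * (z * z) * y⁻¹ := by group
      _ = 1 := by rw [hz2]; group
  · calc y * (z * c) * y⁻¹ * (y * (z * c) * y⁻¹) = y * ((z * c) * (z * c)) * y⁻¹ := by group
      _ = 1 := by rw [h1]; group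
  · rw [e]
    calc x * c * x⁻¹ * (y * c * y⁻¹) = x * ((z * z) * c) * x⁻¹ * (y * ((z * z) * c) * y⁻¹) := by rw [hz2, one_mul]
      _ = _ := by group

end

/-- every field with two elements -/
theorem exists_iso {K : Type*} [Field K] (hK : Nat.card K = 2) : Nonempty (ZMod 2 ≃+* K) := by
  have : Finite K := Nat.finite_of_card_ne_zero (by rw [hK]; exact two_ne_zero)
  have := Fintype.ofFinite K
  exact ⟨ZMod.ringEquivOfPrime K Nat.prime_two (by rw [← Nat.card_eq_fintype_card, hK])⟩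

theorem allC_congr (D : ChevalleyDatum) {K : Type*} [Field K] (hK : Nat.card K = 2)
    (h : Cfsg.Agent.H777.Ore.AllC ↥(D.group (ZMod 2))) : Cfsg.Agent.H777.Ore.AllC ↥(D.group K) := by
  obtain ⟨e⟩ := exists_iso hK
  exact h.congr (Cfsg.Agent.ChevalleyStructure.FieldIso.groupEquiv D e)

theorem inv4_congr (D : ChevalleyDatum) {K : Type*} [Field K] (hK : Nat.card K = 2)
    (h : Cfsg.Agent.H777.Ore.Inv4 ↥(D.group (ZMod 2))) : Cfsg.Agent.H777.Ore.Inv4 ↥(D.group K) := by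
  obtain ⟨e⟩ := exists_iso hK
  intro g
  obtain ⟨a, b, c, d, ha, hb, hc, hd, e1⟩ := h ((Cfsg.Agent.ChevalleyStructure.FieldIso.groupEquiv D e).symm g)
  let f := (Cfsg.Agent.ChevalleyStructure.FieldIso.groupEquiv D e)
  have h1 : ∀ x : ↥(D.group (ZMod 2)), x * x = 1 → f x * f x = 1 := fun x hx => by rw [← map_mul, hx, map_one]
  refine ⟨f a, f b, f c, f d, h1 a ha, h1 b hb, h1 c hc, h1 d hd, ?_⟩
  rw [← map_mul, ← map_mul, ← map_mul, ← e1]
  exact (f.apply_symm_apply g).symm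

end Cfsg.Agent.H584.Ore.ESix
end

-- part: H335/Sr/Inst
section
set_option linter.all false
open scoped Cfsg.Agent.FastGrp

/-!
# The involutions over `-1` and over the graph automorphism of `E₆` (helper335)

For a finite field `K`:

* `F4`, `E8` : `w = -1`, every choice of signs;  `E7`, `G2` : `w = -1`, some signs;
* `E6` : `w α_i = -α_{γ i}`, every `γ`-invariant choice of signs.
-/

set_option autoImplicit false
set_option linter.unusedSectionVars false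

namespace Cfsg.Agent.H335.Sr

open CoxeterSystem Cfsg Cfsg.Lie Cfsg.Lie.ChevalleyDatum
open Cfsg.Agent.ChevalleyStructure Cfsg.Agent.ChevalleyStructure.Elts Cfsg.Agent.ChevalleyStructure.CoxeterGeom
  Cfsg.Agent.ChevalleyStructure.CoxeterGeomTypes Cfsg.Agent.ChevalleyStructure.NPerm
open Cfsg.Agent.Tits.Roots Cfsg.Agent.Tits.Core Cfsg.Agent.Nodes Cfsg.Agent.Nodes.Reps Cfsg.Agent.Nodes.BNOf
  Cfsg.Agent.Nodes.RGDChev Cfsg.Agent.Nodes.Bruhat
open Cfsg.Agent.KFacts.RgdField Cfsg.Agent.KFacts.RgdChevCoord Cfsg.Agent.BpExc.TorCent Cfsg.Agent.BpExc.TorChev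
open Cfsg.Agent.H129.TorusChar Cfsg.Agent.H130.WeylCk Cfsg.Agent.H130.WeylTab

universe u

/-- equality of linear maps on the basis -/
theorem eq_of_sr' {l : ℕ} {f g : (Fin l → ℤ) →ₗ[ℤ] (Fin l → ℤ)} (h : ∀ i, f (sr i) = g (sr i)) (x : Fin l → ℤ) :
    f x = g x := by
  rw [IsMC.eq_sum_sr x, map_sum, map_sum]
  refine Finset.sum_congr rfl fun i _ => ?_
  rw [map_zsmul, map_zsmul, h i]

/-- a word acting as given on the basis -/
theorem rep_word' {l : ℕ} {A : Fin l → Fin l → ℤ} {Al : List (List ℤ)} (hA : MatList A Al) {M : CoxeterMatrix (Fin l)}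
    {W : Type*} [Group W] (cs : CoxeterSystem M W) (h : IsCartan M A) (L : List (Fin l)) (n : ℕ) (i : Fin l) :
    rep cs h (cs.wordProd L ^ n) (sr i) = toFn l (acn Al L n (bas l i)) := by
  rw [toFn_acn cs h hA L n _ (length_bas i.1), toFn_bas, map_pow]
  rfl

/-- `-γ` in the Weyl group -/
theorem exists_negGam {l : ℕ} {A : Fin l → Fin l → ℤ} {Al : List (List ℤ)} (hA : MatList A Al)
    {M : CoxeterMatrix (Fin l)} {W : Type*} [Group W] (cs : CoxeterSystem M W) (h : IsCartan M A) (L : List (Fin l))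
    (n : ℕ) (γ : Fin l → Fin l)
    (hck : ∀ i : Fin l, acn Al L n (bas l i) = (bas l (γ i)).map (fun a => -1 * a)) :
    ∃ w : W, ∀ i, rep cs h w (sr i) = -sr (γ i) := by
  refine ⟨cs.wordProd L ^ n, fun i => ?_⟩
  rw [rep_word' hA cs h L n i, hck i, toFn_smul, toFn_bas, neg_smul, one_smul]
  rfl

/-- the action of `-γ` on all vectors -/
theorem rep_negGam {l : ℕ} {A : Fin l → Fin l → ℤ} {M : CoxeterMatrix (Fin l)} {W : Type*} [Group W]
    (cs : CoxeterSystem M W) (h : IsCartan M A) {γ : Fin l → Fin l} (hγ : ∀ i, γ (γ i) = i) {w : W}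
    (hw : ∀ i, rep cs h w (sr i) = -sr (γ i)) (x : Fin l → ℤ) : rep cs h w x = -(fun i => x (γ i)) := by
  have h1 := eq_of_sr' (f := rep cs h w) (g := -LinearMap.funLeft ℤ ℤ γ) (fun i => by
    rw [hw, LinearMap.neg_apply]
    congr 1
    funext j
    rw [LinearMap.funLeft_apply]
    by_cases hj : γ j = i
    · have hj' : j = γ i := by rw [← hj, hγ]
      rw [hj, hj', sr_self, sr_self]
    · have hj' : j ≠ γ i := fun e => hj (by rw [e, hγ])
      rw [sr_ne hj', sr_ne hj]) x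
  rw [h1]
  rfl

section

variable (K : Type u) [Field K] [Finite K] {W : Type*} [Group W]

/-- the `N`-system of the group over a finite field -/
theorem nsysK {D : ChevalleyDatum} {l : ℕ} {M : CoxeterMatrix (Fin l)} (hp : IsType D l M) :
    NSys M (TT D K) (nc hp K) := by
  obtain ⟨p, hpc⟩ := CharP.exists K
  have : Fact p.Prime := ⟨(CharP.char_is_prime_or_zero K p).resolve_right (CharP.char_ne_zero_of_finite K p)⟩
  exact (rgd (K := K) hp M.toCoxeterSystem p).nsys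

/-- `-γ` in general, with given signs -/
theorem negGam {D : ChevalleyDatum} {l : ℕ} {M : CoxeterMatrix (Fin l)} (hp : IsType D l M) (cs : CoxeterSystem M W)
    {Al : List (List ℤ)} (hA : MatList (cartanOf D l) Al) (L : List (Fin l)) (n : ℕ) {γ : Fin l → Fin l}
    (hγ : ∀ i, γ (γ i) = i) (hck : ∀ i : Fin l, acn Al L n (bas l i) = (bas l (γ i)).map (fun a => -1 * a))
    {d : ℕ} {B : Fin l → Fin l → ℤ} (hB : InvC D l d B) (hd : Odd d) (ε : Fin l → ℤ) (hε : ∀ i, ε i = 1 ∨ ε i = -1)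
    (hεγ : ∀ i, ε (γ i) = ε i) :
    ∃ (w : W) (z : ↥(D.group K)), (∀ i, rep cs hp.isCartan w (sr i) = -sr (γ i)) ∧
      (∀ x, rep cs hp.isCartan w x = -(fun i => x (γ i))) ∧ ZD hp cs w γ ε z := by
  obtain ⟨w, hw⟩ := exists_negGam hA cs hp.isCartan L n γ hck
  obtain ⟨z, h⟩ := exists_ZD hp cs (nsysK K hp) hγ hw hB hd ε hε hεγ
  exact ⟨w, z, hw, rep_negGam cs hp.isCartan hγ hw, h⟩

theorem zF4 (hp : IsType chevF4 4 CoxeterMatrix.F₄) (cs : CoxeterSystem CoxeterMatrix.F₄ W) (ε : Fin 4 → ℤ)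
    (hε : ∀ i, ε i = 1 ∨ ε i = -1) :
    ∃ (w : W) (z : ↥(chevF4.group K)), (∀ x, rep cs hp.isCartan w x = -x) ∧ ZD hp cs w id ε z := by
  obtain ⟨w, z, -, h1, h2⟩ := negGam K hp cs lists_F4 [0, 1, 2, 3] 6 (γ := id) (fun _ => rfl)
    (by decide +kernel) invC_F4 odd_one ε hε (fun _ => rfl)
  exact ⟨w, z, h1, h2⟩

/-- the graph automorphism of `E₆` -/
def g6 : Fin 6 → Fin 6 := ![5, 1, 4, 3, 2, 0]

theorem g6_g6 : ∀ i, g6 (g6 i) = i := by decide

theorem zE6 (hp : IsType chevE6 6 CoxeterMatrix.E₆) (cs : CoxeterSystem CoxeterMatrix.E₆ W) (ε : Fin 6 → ℤ)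
    (hε : ∀ i, ε i = 1 ∨ ε i = -1) (hεγ : ∀ i, ε (g6 i) = ε i) :
    ∃ (w : W) (z : ↥(chevE6.group K)), (∀ i, rep cs hp.isCartan w (sr i) = -sr (g6 i)) ∧
      (∀ x, rep cs hp.isCartan w x = -(fun i => x (g6 i))) ∧ ZD hp cs w g6 ε z :=
  negGam K hp cs lists_E6 [0, 3, 5, 1, 2, 4] 6 g6_g6 (by decide +kernel) invC_E6 (by decide) ε hε hεγ

end

end Cfsg.Agent.H335.Sr
end

-- part: H584/Ore/ESixTwo_mg
section
prune_inst 0x20004004000000000000000002000020020000900020080000000040000021000000012000800000000022040000000000000050000000000000000001180080000800040000a000000000000000000000000000000000000000000000000000000000000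
set_option linter.all false
open scoped Cfsg.Agent.FastGrp

-- part: H692/Ore/FFour
section
/-!
# `F₄(2)`: the longest element inverts symmetric elements of blocks (helper692, S2443 and S4171)

* `w0_sq` : `w₀² = 1`;
* `xc_eq` : `xc hp (vec chevF4 4 r) 1 = x r`;
* `w0_xc` : `w₀ x_r(t) w₀⁻¹ = x_{-r}(t)`;
* `inv_sym` : `z φ(A) z⁻¹ = φ(A)⁻¹` for symmetric `A`, if `z` swaps opposite root elements of the block `φ`;
* `F4.real` : `z (φ(A) ψ(B)) z⁻¹ = (φ(A) ψ(B))⁻¹` for symmetric `A`, `B` and commuting blocks `φ`, `ψ`.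
-/

set_option autoImplicit false

namespace Cfsg.Agent.H692.Ore

open Cfsg Cfsg.Lie Cfsg.Lie.ChevalleyDatum
open Cfsg.Agent.ChevalleyStructure Cfsg.Agent.ChevalleyStructure.Elts Cfsg.Agent.ChevalleyStructure.CoxeterGeomTypes
open Cfsg.Agent.ChevalleyStructure.NPerm Cfsg.Agent.ChevalleyStructure.RootVec Cfsg.Agent.Nodes.RGDChev
open Cfsg.Agent.KFacts.RgdChevCoord
open Cfsg.Agent.FourTwo.Base Cfsg.Agent.FourTwo.BN

/-! ### symmetric elements of blocks -/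

section

variable {ι : Type*} [DecidableEq ι] [Fintype ι] [Nontrivial ι] {K : Type*} [Field K] {Y : Type*} [Group Y]

/-- inverse transposition on a block of type `A` -/
theorem conj_block {φ : Matrix.SpecialLinearGroup ι K →* Y} {z : Y}
    (hz : ∀ a b (hab : a ≠ b) (c : K), z * φ (Matrix.SpecialLinearGroup.transvection hab c) * z⁻¹ =
      φ (Matrix.SpecialLinearGroup.transvection hab.symm (-c))) (A : Matrix.SpecialLinearGroup ι K) :
    z * φ A * z⁻¹ = (φ A.transpose)⁻¹ := by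
  refine Cfsg.Agent.LieClassical.SLGen.transvection_induction (fun A => z * φ A * z⁻¹ = (φ A.transpose)⁻¹) ?_ ?_ A
  · intro a b hab c
    rw [hz, ← map_inv]
    congr 1
    apply Subtype.ext
    rw [Matrix.SpecialLinearGroup.transvection_coe]
    have h1 : (Matrix.SpecialLinearGroup.transvection hab c).transpose =
        Matrix.SpecialLinearGroup.transvection hab.symm c := by
      apply Subtype.ext
      rw [Matrix.SpecialLinearGroup.coe_transpose, Matrix.SpecialLinearGroup.transvection_coe,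
        Matrix.SpecialLinearGroup.transvection_coe, Matrix.transpose_add, Matrix.transpose_one, Matrix.transpose_single]
    rw [h1, Matrix.SpecialLinearGroup.transvection_inv, Matrix.SpecialLinearGroup.transvection_coe]
  · intro A B hA hB
    have h1 : (A * B).transpose = B.transpose * A.transpose := by
      apply Subtype.ext
      simp [Matrix.SpecialLinearGroup.coe_transpose, Matrix.SpecialLinearGroup.coe_mul]
    rw [h1, map_mul, map_mul, mul_inv_rev, ← hA, ← hB]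
    group

/-- symmetric elements are inverted -/
theorem inv_sym {φ : Matrix.SpecialLinearGroup ι K →* Y} {z : Y}
    (hz : ∀ a b (hab : a ≠ b) (c : K), z * φ (Matrix.SpecialLinearGroup.transvection hab c) * z⁻¹ =
      φ (Matrix.SpecialLinearGroup.transvection hab.symm (-c))) {A : Matrix.SpecialLinearGroup ι K}
    (hA : A.1.transpose = A.1) : z * φ A * z⁻¹ = (φ A)⁻¹ := by
  rw [conj_block hz]
  congr 2
  exact Subtype.ext hA

theorem inv_mul_comm {z a b : Y} (hab : a * b = b * a) (h1 : z * a * z⁻¹ = a⁻¹) (h2 : z * b * z⁻¹ = b⁻¹) :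
    z * (a * b) * z⁻¹ = (a * b)⁻¹ := by
  calc z * (a * b) * z⁻¹ = (z * a * z⁻¹) * (z * b * z⁻¹) := by group
    _ = a⁻¹ * b⁻¹ := by rw [h1, h2]
    _ = (a * b)⁻¹ := by rw [hab, mul_inv_rev]

end

/-! ### `F₄(2)` -/

/-- `w₀` is an involution -/
theorem w0_sq : w0 * w0 = 1 := by
  refine eq_one_of_fix (mul_mem w0_mem w0_mem) (l := List.range 48) (fun p hp => List.mem_range.1 hp) (by decide +kernel)
    fun p hp => ?_
  have hp' := List.mem_range.1 hp
  have h1 : w0 * w0 * _root_.Cfsg.Agent.FourTwo.Base.x p * (w0 * w0)⁻¹ = w0 * (w0 * x p * w0⁻¹) * w0⁻¹ := by group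
  rw [h1, w0_conj hp', w0_conj (by omega)]
  congr 1
  omega

section

variable {M : CoxeterMatrix (Fin 4)} (hp : IsType chevF4 4 M)

theorem neg_tab : ∀ r < 48, chevF4.neg r = 47 - r := by decide +kernel

theorem xc_eq {r : ℕ} (hr : r < 48) : xc hp (vec chevF4 4 r) (1 : ZMod 2) = _root_.Cfsg.Agent.FourTwo.Base.x r := by
  apply Subtype.ext
  rw [coe_xc hp hr, coe_x]
  apply Units.ext
  rw [coe_xG]
  rfl

theorem w0_xc {r : ℕ} (hr : r < 48) (t : ZMod 2) :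
    w0 * xc hp (vec chevF4 4 r) t * w0⁻¹ = xc hp (vec chevF4 4 (47 - r)) t := by
  rcases zmod_cases t with rfl | rfl
  · have h0 : ∀ {s : ℕ}, s < 48 → xc hp (vec chevF4 4 s) (0 : ZMod 2) = 1 := fun {s} hs => by
      apply Subtype.ext
      rw [coe_xc hp hs, xG_zero]
      rfl
    rw [h0 hr, h0 (by omega), mul_one, mul_inv_cancel]
  · rw [xc_eq hp hr, xc_eq hp (by omega), w0_conj hr]

theorem neg_zmod (c : ZMod 2) : -c = c := by
  rcases zmod_cases c with rfl | rfl <;> decide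

/-- `w₀` on a block -/
theorem w0_block {n : ℕ} {r : Fin n → Fin n → ℕ} {ε : ℤ} (hr : ∀ a b, a ≠ b → r a b < chevF4.nroots)
    (hneg : ∀ a b, a ≠ b → r b a = chevF4.neg (r a b)) {φ : Matrix.SpecialLinearGroup (Fin n) (ZMod 2) →* LL}
    (hφ : ∀ a b (hab : a ≠ b) c, φ (Matrix.SpecialLinearGroup.transvection hab c) =
      xc hp (vec chevF4 4 (r a b)) ((ε : ZMod 2) * c)) (a b : Fin n) (hab : a ≠ b) (c : ZMod 2) :
    w0 * φ (Matrix.SpecialLinearGroup.transvection hab c) * w0⁻¹ =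
      φ (Matrix.SpecialLinearGroup.transvection hab.symm (-c)) := by
  have h48 : r a b < 48 := hr a b hab
  rw [hφ, hφ, w0_xc hp h48, neg_zmod, hneg a b hab, neg_tab _ h48]

/-- `w₀` inverts the symmetric elements of a block -/
theorem w0_inv {n : ℕ} [Nontrivial (Fin n)] {r : Fin n → Fin n → ℕ} {ε : ℤ}
    (hr : ∀ a b, a ≠ b → r a b < chevF4.nroots) (hneg : ∀ a b, a ≠ b → r b a = chevF4.neg (r a b))
    {φ : Matrix.SpecialLinearGroup (Fin n) (ZMod 2) →* LL}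
    (hφ : ∀ a b (hab : a ≠ b) c, φ (Matrix.SpecialLinearGroup.transvection hab c) =
      xc hp (vec chevF4 4 (r a b)) ((ε : ZMod 2) * c))
    {A : Matrix.SpecialLinearGroup (Fin n) (ZMod 2)} (hA : A.1.transpose = A.1) : w0 * φ A * w0⁻¹ = (φ A)⁻¹ :=
  inv_sym (z := w0) (w0_block hp hr hneg hφ) hA

/-- products of commuting inverted elements -/
theorem w0_inv_mul {a b : LL} (hab : a * b = b * a) (h1 : w0 * a * w0⁻¹ = a⁻¹) (h2 : w0 * b * w0⁻¹ = b⁻¹) :
    w0 * (a * b) * w0⁻¹ = (a * b)⁻¹ := inv_mul_comm (z := w0) hab h1 h2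

/-- the rank one block `sl` -/
theorem w0_sl' {i : Fin 4} {ψ : Matrix.SpecialLinearGroup (Fin 2) (ZMod 2) →* LL}
    (h01 : ∀ c, ψ (Cfsg.Agent.FixBN.FieldRGD.uu c) = xc hp (vec chevF4 4 (chevF4.simple i)) c)
    (h10 : ∀ c, ψ (Cfsg.Agent.FixBN.FieldRGD.vv c) = xc hp (vec chevF4 4 (chevF4.neg (chevF4.simple i))) c)
    {B : Matrix.SpecialLinearGroup (Fin 2) (ZMod 2)} (hB : B.1.transpose = B.1) : w0 * ψ B * w0⁻¹ = (ψ B)⁻¹ := by
  have hs : chevF4.simple i < 48 := by fin_cases i <;> decide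
  have hn : chevF4.neg (chevF4.simple i) < 48 := by rw [neg_tab _ hs]; omega
  have hnn : 47 - chevF4.neg (chevF4.simple i) = chevF4.simple i := by rw [neg_tab _ hs]; omega
  refine inv_sym (z := w0) (fun a b hab c => ?_) hB
  rw [neg_zmod]
  have hcases : (a = 0 ∧ b = 1) ∨ (a = 1 ∧ b = 0) := by
    have : ∀ a b : Fin 2, a ≠ b → (a = 0 ∧ b = 1) ∨ (a = 1 ∧ b = 0) := by decide
    exact this a b hab
  have t01 : ∀ (h : (0 : Fin 2) ≠ 1), Matrix.SpecialLinearGroup.transvection h c = Cfsg.Agent.FixBN.FieldRGD.uu c := by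
    intro h
    apply Subtype.ext
    rw [Matrix.SpecialLinearGroup.transvection_coe]
    ext p q
    (revert p q; simp only [Cfsg.Agent.FixBN.FieldRGD.uu, Matrix.single, _root_.Fin.forall_fin_succ, Fin.isValue, _root_.Matrix.add_apply, _root_.Matrix.of_apply, _root_.Matrix.cons_val', _root_.Matrix.cons_val_fin_one, _root_.one_ne_zero, _root_.and_false, ↓reduceIte, _root_.add_zero, _root_.Matrix.cons_val_zero, _root_.Matrix.cons_val_succ, _root_.Fin.succ_zero_eq_one, _root_.and_true, _root_.IsEmpty.forall_iff, _root_.Matrix.one_apply_eq, Nat.reduceAdd, _root_.ne_eq, _root_.zero_ne_one, _root_.not_false_eq_true, _root_.Matrix.one_apply_ne, _root_.zero_add, _root_.and_self, _root_.Fin.succ_ne_zero, _root_.true_and])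
  have t10 : ∀ (h : (1 : Fin 2) ≠ 0), Matrix.SpecialLinearGroup.transvection h c = Cfsg.Agent.FixBN.FieldRGD.vv c := by
    intro h
    apply Subtype.ext
    rw [Matrix.SpecialLinearGroup.transvection_coe]
    ext p q
    (revert p q; simp only [Cfsg.Agent.FixBN.FieldRGD.vv, Matrix.single, _root_.Fin.forall_fin_succ, Fin.isValue, _root_.Matrix.add_apply, _root_.Matrix.of_apply, _root_.Matrix.cons_val', _root_.Matrix.cons_val_fin_one, _root_.and_true, _root_.Matrix.cons_val_zero, _root_.Matrix.cons_val_succ, _root_.Fin.succ_zero_eq_one, _root_.zero_ne_one, _root_.and_false, ↓reduceIte, _root_.add_zero, _root_.IsEmpty.forall_iff, _root_.Matrix.one_apply_eq, _root_.one_ne_zero, Nat.reduceAdd, _root_.ne_eq, _root_.not_false_eq_true, _root_.Matrix.one_apply_ne, _root_.and_self, _root_.Fin.succ_ne_zero, _root_.zero_add, _root_.ite_eq_left_iff, _root_.not_true_eq_false])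
  rcases hcases with ⟨rfl, rfl⟩ | ⟨rfl, rfl⟩
  · rw [t01, t10, h01 c, h10 c, w0_xc hp hs c, neg_tab _ hs]
  · rw [t01, t10, h01 c, h10 c, w0_xc hp hn c, hnn]

/-- the rank one block of the node `i` -/
theorem w0_sl (i : Fin 4) {B : Matrix.SpecialLinearGroup (Fin 2) (ZMod 2)} (hB : B.1.transpose = B.1) :
    w0 * Cfsg.Agent.OddHalf.NI.ModelChev.sl hp i B * w0⁻¹ = (Cfsg.Agent.OddHalf.NI.ModelChev.sl hp i B)⁻¹ := by
  have hs : chevF4.simple i < 48 := by fin_cases i <;> decide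
  refine w0_sl' hp (i := i) (fun c => ?_) (fun c => ?_) hB
  · rw [Cfsg.Agent.OddHalf.NI.ModelChev.sl_uu, vec_simple hp i]
  · rw [Cfsg.Agent.OddHalf.NI.ModelChev.sl_vv, vec_neg hp hs, vec_simple hp i]

/-- **The involution inverting `φ(A) s_i(B)`**, `A`, `B` symmetric. -/
theorem exists_real {n : ℕ} [Nontrivial (Fin n)] {r : Fin n → Fin n → ℕ} {ε : ℤ}
    (hr : ∀ a b, a ≠ b → r a b < chevF4.nroots) (hneg : ∀ a b, a ≠ b → r b a = chevF4.neg (r a b))
    {φ : Matrix.SpecialLinearGroup (Fin n) (ZMod 2) →* LL}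
    (hφ : ∀ a b (hab : a ≠ b) c, φ (Matrix.SpecialLinearGroup.transvection hab c) =
      xc hp (vec chevF4 4 (r a b)) ((ε : ZMod 2) * c)) (i : Fin 4)
    {A : Matrix.SpecialLinearGroup (Fin n) (ZMod 2)} {B : Matrix.SpecialLinearGroup (Fin 2) (ZMod 2)}
    (hA : A.1.transpose = A.1) (hB : B.1.transpose = B.1)
    (hcomm : φ A * Cfsg.Agent.OddHalf.NI.ModelChev.sl hp i B = Cfsg.Agent.OddHalf.NI.ModelChev.sl hp i B * φ A) :
    ∃ z : LL, z * z = 1 ∧ z * (φ A * Cfsg.Agent.OddHalf.NI.ModelChev.sl hp i B) * z⁻¹ =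
      (φ A * Cfsg.Agent.OddHalf.NI.ModelChev.sl hp i B)⁻¹ :=
  ⟨w0, w0_sq, w0_inv_mul hcomm (w0_inv hp hr hneg hφ hA) (w0_sl hp i hB)⟩

end

end Cfsg.Agent.H692.Ore
end

-- part: H692/Ore/ESix
section
/-!
# `E₆(2)`: an involution inverting `φ(A) s₁(B) s₆(B)`, `A`, `B` symmetric (helper692, S2443 and S4171)
-/

set_option autoImplicit false

namespace Cfsg.Agent.H692.Ore.ESix

open Cfsg Cfsg.Lie Cfsg.Lie.ChevalleyDatum
open Cfsg.Agent.ChevalleyStructure Cfsg.Agent.ChevalleyStructure.Elts Cfsg.Agent.ChevalleyStructure.CoxeterGeom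
open Cfsg.Agent.ChevalleyStructure.CoxeterGeomTypes
open Cfsg.Agent.ChevalleyStructure.NPerm Cfsg.Agent.ChevalleyStructure.RootVec Cfsg.Agent.Nodes.RGDChev
open Cfsg.Agent.KFacts.RgdChevCoord Cfsg.Agent.Nodes.Reps Cfsg.Agent.Nodes.Bruhat Cfsg.Agent.Tits.Roots
open Cfsg.Agent.H335.Sr Cfsg.Agent.OddHalf.NI.ModelChev

/-- `z s_i(B) z⁻¹ = s_{γ i}(B⁻ᵀ)` -/
theorem zd_sl {D : ChevalleyDatum} {l : ℕ} {M : CoxeterMatrix (Fin l)} {hp : IsType D l M} {W : Type*} [Group W]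
    {cs : CoxeterSystem M W} {w : W} {γ : Fin l → Fin l} {ε : Fin l → ℤ} {z : ↥(D.group (ZMod 2))}
    (Z : ZD hp cs w γ ε z) (i : Fin l) {B : Matrix.SpecialLinearGroup (Fin 2) (ZMod 2)} (hB : B.1.transpose = B.1) :
    z * sl hp i B * z⁻¹ = (sl hp (γ i) B)⁻¹ := by
  have hε : ∀ c : ZMod 2, ((ε i : ℤ) : ZMod 2) * c = c := by
    intro c
    rcases Z.sgn i with h | h <;> rw [h]
    · simp
    · rw [Int.cast_neg, Int.cast_one, neg_mul, one_mul, neg_zmod]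
  have key : ∀ A : Matrix.SpecialLinearGroup (Fin 2) (ZMod 2),
      z * sl hp i A * z⁻¹ = (sl hp (γ i) A.transpose)⁻¹ := by
    intro A
    refine Cfsg.Agent.LieClassical.SLGen.transvection_induction
      (fun A => z * sl hp i A * z⁻¹ = (sl hp (γ i) A.transpose)⁻¹) ?_ ?_ A
    · intro a b hab c
      have h1 : (Matrix.SpecialLinearGroup.transvection hab c).transpose =
          Matrix.SpecialLinearGroup.transvection hab.symm c := by
        apply Subtype.ext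
        rw [Matrix.SpecialLinearGroup.coe_transpose, Matrix.SpecialLinearGroup.transvection_coe,
          Matrix.SpecialLinearGroup.transvection_coe, Matrix.transpose_add, Matrix.transpose_one, Matrix.transpose_single]
      rw [h1, ← map_inv]
      have h2 : (Matrix.SpecialLinearGroup.transvection hab.symm c)⁻¹ =
          Matrix.SpecialLinearGroup.transvection hab.symm c := by
        rw [Matrix.SpecialLinearGroup.transvection_inv, neg_zmod]
      rw [h2]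
      have hcases : (a = 0 ∧ b = 1) ∨ (a = 1 ∧ b = 0) := by
        have : ∀ a b : Fin 2, a ≠ b → (a = 0 ∧ b = 1) ∨ (a = 1 ∧ b = 0) := by decide
        exact this a b hab
      have t01 : ∀ (h : (0 : Fin 2) ≠ 1), Matrix.SpecialLinearGroup.transvection h c =
          Cfsg.Agent.FixBN.FieldRGD.uu c := by
        intro h
        apply Subtype.ext
        rw [Matrix.SpecialLinearGroup.transvection_coe]
        ext p q
        (revert p q; simp only [Cfsg.Agent.FixBN.FieldRGD.uu, Matrix.single, _root_.Fin.forall_fin_succ, Fin.isValue, _root_.Matrix.add_apply, _root_.Matrix.of_apply, _root_.Matrix.cons_val', _root_.Matrix.cons_val_fin_one, _root_.one_ne_zero, _root_.and_false, ↓reduceIte, _root_.add_zero, _root_.Matrix.cons_val_zero, _root_.Matrix.cons_val_succ, _root_.Fin.succ_zero_eq_one, _root_.and_true, _root_.IsEmpty.forall_iff, _root_.Matrix.one_apply_eq, Nat.reduceAdd, _root_.ne_eq, _root_.zero_ne_one,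 _root_.not_false_eq_true, _root_.Matrix.one_apply_ne, _root_.zero_add, _root_.and_self, _root_.Fin.succ_ne_zero, _root_.true_and])
      have t10 : ∀ (h : (1 : Fin 2) ≠ 0), Matrix.SpecialLinearGroup.transvection h c =
          Cfsg.Agent.FixBN.FieldRGD.vv c := by
        intro h
        apply Subtype.ext
        rw [Matrix.SpecialLinearGroup.transvection_coe]
        ext p q
        (revert p q; simp only [Cfsg.Agent.FixBN.FieldRGD.vv, Matrix.single, _root_.Fin.forall_fin_succ, Fin.isValue, _root_.Matrix.add_apply, _root_.Matrix.of_apply, _root_.Matrix.cons_val', _root_.Matrix.cons_val_fin_one, _root_.and_true, _root_.Matrix.cons_val_zero, _root_.Matrix.cons_val_succ, _root_.Fin.succ_zero_eq_one, _root_.zero_ne_one, _root_.and_false, ↓reduceIte, _root_.add_zero, _root_.IsEmpty.forall_iff, _root_.Matrix.one_apply_eq, _root_.one_ne_zero, Nat.reduceAdd, _root_.ne_eq, _root_.not_false_eq_true, _root_.Matrix.one_apply_ne,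 _root_.and_self, _root_.Fin.succ_ne_zero, _root_.zero_add, _root_.ite_eq_left_iff, _root_.not_true_eq_false])
      rcases hcases with ⟨rfl, rfl⟩ | ⟨rfl, rfl⟩
      · rw [t01, t10, sl_uu, sl_vv, Z.pos, hε]
      · rw [t01, t10, sl_uu, sl_vv, Z.neg, hε]
    · intro A B hA hB
      have h1 : (A * B).transpose = B.transpose * A.transpose := by
        apply Subtype.ext
        simp [Matrix.SpecialLinearGroup.coe_transpose, Matrix.SpecialLinearGroup.coe_mul]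
      rw [h1, map_mul, map_mul, mul_inv_rev, ← hA, ← hB]
      group
  rw [key]
  congr 2
  exact Subtype.ext hB

/-- **The reversing involution of `φ(A) s₁(B) s₆(B)`.** -/
theorem exists_real (hp : IsType chevE6 6 CoxeterMatrix.E₆) {n : ℕ} [Nontrivial (Fin n)] {r : Fin n → Fin n → ℕ} {ε : ℤ}
    (hr : ∀ a b, a ≠ b → r a b < chevE6.nroots) (hneg : ∀ a b, a ≠ b → r b a = chevE6.neg (r a b))
    (hfix : ∀ a b, a ≠ b → ∀ i, vec chevE6 6 (r a b) (g6 i) = vec chevE6 6 (r a b) i)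
    {φ : Matrix.SpecialLinearGroup (Fin n) (ZMod 2) →* ↥(chevE6.group (ZMod 2))}
    (hφ : ∀ a b (hab : a ≠ b) c, φ (Matrix.SpecialLinearGroup.transvection hab c) =
      xc hp (vec chevE6 6 (r a b)) ((ε : ZMod 2) * c))
    {A : Matrix.SpecialLinearGroup (Fin n) (ZMod 2)} {B : Matrix.SpecialLinearGroup (Fin 2) (ZMod 2)}
    (hA : A.1.transpose = A.1) (hB : B.1.transpose = B.1)
    (hcomm : φ A * (sl hp 0 B * sl hp 5 B) = (sl hp 0 B * sl hp 5 B) * φ A) :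
    ∃ z : ↥(chevE6.group (ZMod 2)), z * z = 1 ∧ z * (φ A * (sl hp 0 B * sl hp 5 B)) * z⁻¹ =
      (φ A * (sl hp 0 B * sl hp 5 B))⁻¹ := by
  obtain ⟨w, z, -, hw, Z⟩ := zE6 (ZMod 2) hp CoxeterMatrix.E₆.toCoxeterSystem (fun _ => 1) (fun _ => .inl rfl)
    (fun _ => rfl)
  refine ⟨z, Z.sq, inv_mul_comm (z := z) hcomm (inv_sym (z := z) (fun a b hab c => ?_) hA) ?_⟩
  · rw [hφ, hφ]
    obtain ⟨e, he, h1, -⟩ := Z.root (vec chevE6 6 (r a b)) (isRoot_vec hp _ (hr a b hab))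
    rw [h1, hw, neg_zmod, hneg a b hab, vec_neg hp (hr a b hab)]
    have h2 : (fun i => vec chevE6 6 (r a b) (g6 i)) = vec chevE6 6 (r a b) := funext (hfix a b hab)
    rw [h2]
    congr 1
    rcases he with rfl | rfl
    · simp
    · rw [Int.cast_neg, Int.cast_one, neg_mul, one_mul, neg_zmod]
  · calc z * (sl hp 0 B * sl hp 5 B) * z⁻¹ = (z * sl hp 0 B * z⁻¹) * (z * sl hp 5 B * z⁻¹) := by group
      _ = (sl hp 5 B)⁻¹ * (sl hp 0 B)⁻¹ := by
        rw [zd_sl Z 0 hB, zd_sl Z 5 hB]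
        rfl
      _ = (sl hp 0 B * sl hp 5 B)⁻¹ := by rw [mul_inv_rev]

/-- the table of `H162.GaussExcMain.r6` -/
def r6 : Fin 3 → Fin 3 → ℕ := ![![0, 39, 47], ![32, 0, 46], ![24, 25, 0]]

theorem r6_lt : ∀ a b, a ≠ b → r6 a b < chevE6.nroots := by decide +kernel

theorem r6_neg : ∀ a b, a ≠ b → r6 b a = chevE6.neg (r6 a b) := by decide +kernel

theorem r6_fix : ∀ a b, a ≠ b → ∀ i, vec chevE6 6 (r6 a b) (g6 i) = vec chevE6 6 (r6 a b) i := by decide +kernel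

/-- **The reversing involution for the block on the nodes `3, 1`.** -/
theorem rev (hp : IsType chevE6 6 CoxeterMatrix.E₆)
    {φ : Matrix.SpecialLinearGroup (Fin 3) (ZMod 2) →* ↥(chevE6.group (ZMod 2))}
    (hφ : ∀ a b (hab : a ≠ b) c, φ (Matrix.SpecialLinearGroup.transvection hab c) =
      xc hp (vec chevE6 6 ((![![0, 39, 47], ![32, 0, 46], ![24, 25, 0]] : Fin 3 → Fin 3 → ℕ) a b))
        (((1 : ℤ) : ZMod 2) * c))
    {A : Matrix.SpecialLinearGroup (Fin 3) (ZMod 2)} {B : Matrix.SpecialLinearGroup (Fin 2) (ZMod 2)}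
    (hA : A.1.transpose = A.1) (hB : B.1.transpose = B.1)
    (hcomm : φ A * (sl hp 0 B * sl hp 5 B) = (sl hp 0 B * sl hp 5 B) * φ A) :
    ∃ z : ↥(chevE6.group (ZMod 2)), z * z = 1 ∧ z * (φ A * (sl hp 0 B * sl hp 5 B)) * z⁻¹ =
      (φ A * (sl hp 0 B * sl hp 5 B))⁻¹ :=
  exists_real hp (r := r6) (ε := 1) r6_lt r6_neg r6_fix hφ hA hB hcomm

end Cfsg.Agent.H692.Ore.ESix
end

-- part: H267/Ore/ESixFix
section
/-!
# Fixed points for `E₆(2)` (S2443, S4171)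

`c₀ = φ(XX0) · sl₀(w) sl₅(w)` (an element of order `21` of `SL₃(2) × SL₂(2) × SL₂(2)`) has no fixed points on the
unipotent radicals of the parabolic subgroups of type `J = {0, 1, 3, 5}`: it is diagonalisable over the field with 64
elements and the values `ν^e ω^f` (`ν` of order 7, `ω` of order 3) of the roots outside `J` are different from one.
-/

set_option autoImplicit false
set_option linter.unusedSectionVars false

namespace Cfsg.Agent.H267.Ore.ESix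

open CoxeterSystem Cfsg.Agent.ChevalleyStructure.CoxeterGeom Cfsg.Agent.Tits.Roots Cfsg.Agent.Tits.Core
  Cfsg.Agent.Nodes.Reps Cfsg.Agent.Nodes.BNOf Cfsg.Agent.Nodes.RGDLib Cfsg.Agent.Nodes.Bruhat
  Cfsg.Agent.Nodes.OppDec Cfsg.Agent.Nodes.LeviDec Cfsg.Agent.Nodes.KindChev Cfsg.Agent.Nodes.ChevCls
  Cfsg.Agent.OddHalf.NI.ModelChev Cfsg.Agent.Nodes.StabComb
  Cfsg.Agent.H162.GaussDec Cfsg.Agent.H162.GaussLevi Cfsg.Agent.H162.GaussSL Cfsg.Agent.H162.GaussReg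
  Cfsg.Agent.H928.Ore.Frame Cfsg.Agent.H928.Ore.Fix Cfsg.Agent.H928.Ore.Block Cfsg.Agent.H374.Ore.Nf
open Cfsg.Lie Cfsg.Agent.ChevalleyStructure Cfsg.Agent.ChevalleyStructure.Elts
  Cfsg.Agent.ChevalleyStructure.RootVec Cfsg.Agent.ChevalleyStructure.NPerm
  Cfsg.Agent.ChevalleyStructure.CoxeterGeomTypes Cfsg.Agent.Nodes.RGDChev Cfsg.Agent.KFacts.RgdChevCoord
open Cfsg.Agent.FixBN.FieldRGD (uu vv dd ww)
open Cfsg.Agent.TitsThree.KExcBase (comm_nil)
open Cfsg.Agent.H162.GaussExcMain (r6)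
open Cfsg.Agent.H194.Ore (exists_diag)
open Polynomial (X C)

universe u v

/-! ### Commuting blocks -/

/-- orthogonal roots -/
def Ort (D : ChevalleyDatum) (r s : ℕ) : Prop :=
  r < D.nroots ∧ s < D.nroots ∧ s ≠ r ∧ s ≠ D.neg r ∧ D.commTerms r s = []

instance (D : ChevalleyDatum) (r s : ℕ) : Decidable (Ort D r s) := by unfold Ort; infer_instance

section

variable {D : ChevalleyDatum} {l : ℕ} {M : CoxeterMatrix (Fin l)} (hp : IsType D l M) {K : Type u} [Field K]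

theorem comm_xc {r s : ℕ} (h : Ort D r s) (t u : K) :
    xc hp (vec D l r) t * xc hp (vec D l s) u = xc hp (vec D l s) u * xc hp (vec D l r) t := by
  apply Subtype.ext
  rw [Subgroup.coe_mul, Subgroup.coe_mul, coe_xc hp h.1, coe_xc hp h.2.1]
  exact comm_nil hp.inList h.1 h.2.1 h.2.2.1 h.2.2.2.1 h.2.2.2.2 t u

/-- homomorphisms with commuting root elements commute -/
theorem comm_homs {Y : Type*} [Group Y] {n m : ℕ} {Φ : Matrix.SpecialLinearGroup (Fin n) K →* Y}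
    {Ψ : Matrix.SpecialLinearGroup (Fin m) K →* Y}
    (h : ∀ a b (hab : a ≠ b) c a' b' (hab' : a' ≠ b') c', Φ (Matrix.SpecialLinearGroup.transvection hab c) *
      Ψ (Matrix.SpecialLinearGroup.transvection hab' c') = Ψ (Matrix.SpecialLinearGroup.transvection hab' c') *
      Φ (Matrix.SpecialLinearGroup.transvection hab c)) (A : Matrix.SpecialLinearGroup (Fin n) K)
    (B : Matrix.SpecialLinearGroup (Fin m) K) : Commute (Φ A) (Ψ B) := by
  have h1 : ∀ a b (hab : a ≠ b) c (B : Matrix.SpecialLinearGroup (Fin m) K),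
      Φ (Matrix.SpecialLinearGroup.transvection hab c) * Ψ B =
        Ψ B * Φ (Matrix.SpecialLinearGroup.transvection hab c) := by
    intro a b hab c B
    have h2 : (MulAut.conj (Φ (Matrix.SpecialLinearGroup.transvection hab c))).toMonoidHom.comp Ψ = Ψ := by
      refine hom_ext fun a' b' hab' c' => ?_
      change Φ _ * Ψ _ * (Φ _)⁻¹ = Ψ _
      rw [h a b hab c a' b' hab' c', mul_inv_cancel_right]
    have h3 := DFunLike.congr_fun h2 B
    change Φ _ * Ψ B * (Φ _)⁻¹ = Ψ B at h3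
    rwa [mul_inv_eq_iff_eq_mul] at h3
  have h2 : (MulAut.conj (Ψ B)).toMonoidHom.comp Φ = Φ := by
    refine hom_ext fun a b hab c => ?_
    change Ψ B * Φ _ * (Ψ B)⁻¹ = Φ _
    rw [← h1 a b hab c B, mul_inv_cancel_right]
  have h3 := DFunLike.congr_fun h2 A
  change Ψ B * Φ A * (Ψ B)⁻¹ = Φ A at h3
  rw [mul_inv_eq_iff_eq_mul] at h3
  exact h3.symm

/-- the roots of the rank one block -/
def rk (D : ChevalleyDatum) (k : ℕ) : Fin 2 → Fin 2 → ℕ := ![![0, D.simple k], ![D.neg (D.simple k), 0]]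

theorem sl_tv (k : Fin l) (a b : Fin 2) (hab : a ≠ b) (c : K) :
    sl hp k (Matrix.SpecialLinearGroup.transvection hab c) = xc hp (vec D l (rk D k a b)) (((1 : ℤ) : K) * c) := by
  have hk := _root_.Cfsg.Agent.ChevalleyStructure.NPerm.simple_lt hp.inList (lt_rank hp k)
  rw [Int.cast_one, one_mul]
  fin_cases a <;> fin_cases b
  · exact absurd rfl hab
  · rw [tv_uu, sl_uu, ← vec_simple hp k]; rfl
  · rw [tv_vv, sl_vv, ← vec_simple hp k, ← vec_neg hp hk]; rfl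
  · exact absurd rfl hab

theorem comm_blocks {n m : ℕ} {r : Fin n → Fin n → ℕ} {r' : Fin m → Fin m → ℕ} {ε ε' : ℤ}
    {Φ : Matrix.SpecialLinearGroup (Fin n) K →* ↥(D.group K)} {Ψ : Matrix.SpecialLinearGroup (Fin m) K →* ↥(D.group K)}
    (hΦ : ∀ a b (hab : a ≠ b) c, Φ (Matrix.SpecialLinearGroup.transvection hab c) = xc hp (vec D l (r a b)) ((ε : K) * c))
    (hΨ : ∀ a b (hab : a ≠ b) c, Ψ (Matrix.SpecialLinearGroup.transvection hab c) =
      xc hp (vec D l (r' a b)) ((ε' : K) * c))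
    (h : ∀ a b a' b', a ≠ b → a' ≠ b' → Ort D (r a b) (r' a' b')) (A : Matrix.SpecialLinearGroup (Fin n) K)
    (B : Matrix.SpecialLinearGroup (Fin m) K) : Commute (Φ A) (Ψ B) :=
  comm_homs (fun a b hab c a' b' hab' c' => by
    rw [hΦ, hΨ]
    exact comm_xc hp (h a b a' b' hab hab') _ _) A B

end

/-! ### The tables -/

/-- the nodes -/
def jL : List (Fin 6) := [0, 1, 3, 5]

theorem tabO : (∀ a b a' b', a ≠ b → a' ≠ b' → Ort chevE6 (r6 a b) (rk chevE6 0 a' b')) ∧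
    (∀ a b a' b', a ≠ b → a' ≠ b' → Ort chevE6 (r6 a b) (rk chevE6 5 a' b')) ∧
    (∀ a b a' b', a ≠ b → a' ≠ b' → Ort chevE6 (rk chevE6 0 a b) (rk chevE6 5 a' b')) := by decide +kernel

/-- the roots lie in the span of `J` -/
def InJ {n : ℕ} (r : Fin n → Fin n → ℕ) : Prop :=
  ∀ a b : Fin n, a ≠ b → ∀ k : Fin 6, k ∉ jL → vec chevE6 6 (r a b) k = 0

instance {n : ℕ} (r : Fin n → Fin n → ℕ) : Decidable (InJ r) := by unfold InJ; infer_instance

theorem tabJ : InJ r6 ∧ InJ (rk chevE6 0) ∧ InJ (rk chevE6 5) := by decide +kernel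

theorem tabR : (∀ a b, a ≠ b → r6 a b < chevE6.nroots ∧ r6 b a = chevE6.neg (r6 a b)) ∧
    (∀ a b, a ≠ b → rk chevE6 0 a b < chevE6.nroots) ∧ (∀ a b, a ≠ b → rk chevE6 5 a b < chevE6.nroots) ∧
    r6 0 1 = chevE6.simple (3 : Fin 6) ∧ r6 1 2 = chevE6.simple (1 : Fin 6) := by decide +kernel

theorem tabW : ∀ s < chevE6.nroots, (∃ k : Fin 6, k ∉ jL ∧ vec chevE6 6 s k ≠ 0) →
    ¬ ((7 : ℤ) ∣ chevE6.cartan 3 s + 3 * chevE6.cartan 1 s ∧ (3 : ℤ) ∣ chevE6.cartan 0 s + chevE6.cartan 5 s) := by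
  decide +kernel

theorem mem_jL {k : Fin 6} : k ∈ ({0, 1, 3, 5} : Set (Fin 6)) ↔ k ∈ jL := by
  simp only [jL, _root_.Fin.isValue, _root_.Set.mem_insert_iff, _root_.Set.mem_singleton_iff, _root_.Cfsg.Agent.H267.Ore.ESix.jL, _root_.List.mem_cons, _root_.List.not_mem_nil, _root_.or_false]

/-! ### Over the large field -/

section

variable {K' : Type u} [Field K'] [Finite K']

theorem nf_big (hp : IsType chevE6 6 CoxeterMatrix.E₆) {φ : Matrix.SpecialLinearGroup (Fin 3) K' →* ↥(chevE6.group K')}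
    (hφ : ∀ a b (hab : a ≠ b) c, φ (Matrix.SpecialLinearGroup.transvection hab c) =
      xc hp (vec chevE6 6 (r6 a b)) (((1 : ℤ) : K') * c)) {ν ω : K'ˣ} (hν : orderOf ν = 7) (hω : orderOf ω = 3)
    (P : Matrix.SpecialLinearGroup (Fin 3) K') (Q : Matrix.SpecialLinearGroup (Fin 2) K') :
    NF (VJ CoxeterMatrix.E₆.toCoxeterSystem hp.isCartan (XX chevE6 6 K') {0, 1, 3, 5})
      (φ (P * dg3 ν (ν ^ 3) * P⁻¹) * (sl hp 0 (Q * _root_.Cfsg.Agent.FixBN.FieldRGD.dd (ω : K') ω.ne_zero * Q⁻¹) *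
        sl hp 5 (Q * dd (ω : K') ω.ne_zero * Q⁻¹))) ∧
    NF (VNJ CoxeterMatrix.E₆.toCoxeterSystem hp.isCartan (XX chevE6 6 K') {0, 1, 3, 5})
      (φ (P * dg3 ν (ν ^ 3) * P⁻¹) * (sl hp 0 (Q * dd (ω : K') ω.ne_zero * Q⁻¹) *
        sl hp 5 (Q * dd (ω : K') ω.ne_zero * Q⁻¹))) := by
  obtain ⟨p, hpc⟩ := CharP.exists K'
  have : Fact p.Prime := ⟨(CharP.char_is_prime_or_zero K' p).resolve_right (CharP.char_ne_zero_of_finite K' p)⟩
  have := finite_W hp CoxeterMatrix.E₆.toCoxeterSystem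
  have h05 : ∀ A B, Commute (sl hp (K := K') 0 A) (sl hp 5 B) :=
    comm_blocks hp (ε := 1) (ε' := 1) (sl_tv hp 0) (sl_tv hp 5) tabO.2.2
  have hφ0 : ∀ A B, Commute (φ A) (sl hp 0 B) := comm_blocks hp (ε := 1) (ε' := 1) hφ (sl_tv hp 0) tabO.1
  have hφ5 : ∀ A B, Commute (φ A) (sl hp 5 B) := comm_blocks hp (ε := 1) (ε' := 1) hφ (sl_tv hp 5) tabO.2.1
  let Ψ : Matrix.SpecialLinearGroup (Fin 2) K' × Matrix.SpecialLinearGroup (Fin 2) K' →* ↥(chevE6.group K') :=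
    (sl hp 0).noncommCoprod (sl hp 5) h05
  have hΨ : ∀ A B, Ψ (A, B) = sl hp 0 A * sl hp 5 B := fun A B => rfl
  let Θ : Matrix.SpecialLinearGroup (Fin 3) K' × (Matrix.SpecialLinearGroup (Fin 2) K' ×
      Matrix.SpecialLinearGroup (Fin 2) K') →* ↥(chevE6.group K') :=
    φ.noncommCoprod Ψ fun A B => (hφ0 A B.1).mul_right (hφ5 A B.2)
  have hΘ : ∀ A B C, Θ (A, (B, C)) = φ A * (sl hp 0 B * sl hp 5 C) := fun A B C => rfl
  let σ : Fin 6 → K'ˣ := ![ω, ν ^ 3, 1, ν, 1, ω]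
  have hσ : th hp σ = φ (dg3 ν (ν ^ 3)) * (sl hp 0 (_root_.Cfsg.Agent.FixBN.FieldRGD.dd (ω : K') ω.ne_zero) * sl hp 5 (dd (ω : K') ω.ne_zero)) := by
    rw [phi_dg3 hp (ε := 1) (by norm_num) (fun a b hab => (tabR.1 a b hab).1) (fun a b hab => (tabR.1 a b hab).2) hφ
      tabR.2.2.2.1 tabR.2.2.2.2, ← th_mulSingle, ← th_mulSingle, ← map_mul, ← map_mul]
    congr 1
    funext k
    (revert k; simp only [σ, Pi.mulSingle, Function.update, _root_.Fin.forall_fin_succ, Fin.isValue, _root_.Pi.mul_apply, _root_.eq_rec_constant, _root_.Pi.one_apply, _root_.dite_eq_ite, _root_.mul_ite, _root_.ite_mul, _root_.one_mul, _root_.mul_one, _root_.Matrix.cons_val_zero, Fin.reduceEq, ↓reduceIte, _root_.zero_ne_one, _root_.Matrix.cons_val_succ, _root_.Fin.succ_ne_zero, _root_.Fin.succ_zero_eq_one, _root_.Fin.succ_one_eq_two, Fin.reduceSucc, _root_.Matrix.cons_val_fin_one, _root_.IsEmpty.forall_iff, _root_.and_self])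
  have hmem : Θ (P, (Q, Q)) ∈ LJ CoxeterMatrix.E₆.toCoxeterSystem hp.isCartan (TT chevE6 K') (XX chevE6 6 K')
      ({0, 1, 3, 5} : Set (Fin 6)) := by
    rw [hΘ]
    refine mul_mem ?_ (mul_mem ?_ ?_)
    · exact phi_mem hp (ε := 1) (fun a b hab => (tabR.1 a b hab).1) hφ
        (fun a b hab k hk => tabJ.1 a b hab k fun h => hk (mem_jL.2 h)) P
    · exact phi_mem hp (ε := 1) tabR.2.1 (sl_tv hp 0)
        (fun a b hab k hk => tabJ.2.1 a b hab k fun h => hk (mem_jL.2 h)) Q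
    · exact phi_mem hp (ε := 1) tabR.2.2.1 (sl_tv hp 5)
        (fun a b hab k hk => tabJ.2.2 a b hab k fun h => hk (mem_jL.2 h)) Q
  have e : φ (P * dg3 ν (ν ^ 3) * P⁻¹) * (sl hp 0 (Q * _root_.Cfsg.Agent.FixBN.FieldRGD.dd (ω : K') ω.ne_zero * Q⁻¹) *
        sl hp 5 (Q * dd (ω : K') ω.ne_zero * Q⁻¹)) = Θ (P, (Q, Q)) * th hp σ * (Θ (P, (Q, Q)))⁻¹ := by
    rw [hσ, ← hΘ, ← hΘ, ← map_inv, ← map_mul, ← map_mul]
    rfl
  rw [e]
  have hth : th hp σ ∈ TT chevE6 K' := (thT hp σ).2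
  refine nf_conj (rgd (K := K') hp CoxeterMatrix.E₆.toCoxeterSystem p) hth (noFix_ch hp hth fun s hs hk => ?_) hmem
  rw [ch_th hp hs]
  intro h1
  have h2 : ω ^ chevE6.cartan 0 s * (ν ^ 3) ^ chevE6.cartan 1 s * ν ^ chevE6.cartan 3 s * ω ^ chevE6.cartan 5 s = 1 := by
    apply Units.ext
    rw [Units.val_one, ← h1, Fin.prod_univ_six]
    simp [σ]
  have h3 : ν ^ (chevE6.cartan 3 s + 3 * chevE6.cartan 1 s) * ω ^ (chevE6.cartan 0 s + chevE6.cartan 5 s) = 1 := by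
    rw [← h2, zpow_add, zpow_add, zpow_mul]
    have h4 : ν ^ (3 : ℤ) = ν ^ 3 := zpow_ofNat ν 3
    rw [h4]
    generalize ω ^ chevE6.cartan 0 s = x1
    generalize (ν ^ 3) ^ chevE6.cartan 1 s = x2
    generalize ν ^ chevE6.cartan 3 s = x3
    generalize ω ^ chevE6.cartan 5 s = x4
    calc x3 * x2 * (x1 * x4) = (x3 * x2) * x1 * x4 := (mul_assoc _ _ _).symm
      _ = x1 * x2 * x3 * x4 := by rw [mul_comm x3 x2, mul_comm (x2 * x3) x1, ← mul_assoc]
  obtain ⟨k, hk1, hk2⟩ := hk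
  refine tabW s hs ⟨k, fun h => hk1 (mem_jL.2 h), hk2⟩ ⟨?_, ?_⟩
  · have h4 : ν ^ ((chevE6.cartan 3 s + 3 * chevE6.cartan 1 s) * 3) = 1 := by
      have h5 := congrArg (· ^ (3 : ℤ)) h3
      simp only [mul_zpow, one_zpow] at h5
      rw [← zpow_mul, ← zpow_mul, mul_comm (chevE6.cartan 0 s + chevE6.cartan 5 s), zpow_mul ω] at h5
      have h6 : ω ^ (3 : ℤ) = 1 := by rw [zpow_ofNat, ← hω, pow_orderOf_eq_one]
      rwa [h6, one_zpow, mul_one] at h5
    have h5 := orderOf_dvd_iff_zpow_eq_one.2 h4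
    rw [hν] at h5
    exact (Int.isCoprime_iff_gcd_eq_one.2 (by decide)).dvd_of_dvd_mul_right h5
  · have h4 : ω ^ ((chevE6.cartan 0 s + chevE6.cartan 5 s) * 7) = 1 := by
      have h5 := congrArg (· ^ (7 : ℤ)) h3
      simp only [mul_zpow, one_zpow] at h5
      rw [← zpow_mul, ← zpow_mul, mul_comm (chevE6.cartan 3 s + 3 * chevE6.cartan 1 s), zpow_mul ν] at h5
      have h6 : ν ^ (7 : ℤ) = 1 := by rw [zpow_ofNat, ← hν, pow_orderOf_eq_one]
      rwa [h6, one_zpow, one_mul] at h5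
    have h5 := orderOf_dvd_iff_zpow_eq_one.2 h4
    rw [hω] at h5
    exact (Int.isCoprime_iff_gcd_eq_one.2 (by decide)).dvd_of_dvd_mul_right h5

end

/-! ### The field with 64 elements -/

theorem two_zero {F : Type*} [Field F] [CharP F 2] : (2 : F) = 0 := by
  have := CharP.cast_eq_zero F 2
  exact_mod_cast this

theorem pow_ne {F : Type*} [Field F] {ν : Fˣ} {n k : ℕ} (h : orderOf ν = n) (hk : ¬ n ∣ k) : (ν : F) ^ k ≠ 1 := by
  intro h1
  apply hk
  rw [← h, orderOf_dvd_iff_pow_eq_one]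
  exact Units.ext (by rw [Units.val_pow_eq_pow_val, h1, Units.val_one])

theorem pow_one' {F : Type*} [Field F] {ν : Fˣ} {n : ℕ} (h : orderOf ν = n) : (ν : F) ^ n = 1 := by
  rw [← Units.val_pow_eq_pow_val, ← h, pow_orderOf_eq_one, Units.val_one]

theorem exists_field : ∃ (K' : Type) (_ : Field K') (_ : Finite K') (_ : CharP K' 2) (ν ω : K'ˣ),
    orderOf ν = 7 ∧ orderOf ω = 3 ∧ (ν : K') ^ 3 + (ν : K') ^ 2 + 1 = 0 ∧ (ω : K') ^ 2 + (ω : K') + 1 = 0 := by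
  have : Fact (Nat.Prime 2) := ⟨Nat.prime_two⟩
  have hfin : Finite (GaloisField 2 6) := inferInstance
  obtain ⟨t, ht⟩ := IsCyclic.exists_ofOrder_eq_natCard (α := (GaloisField 2 6)ˣ)
  have hc : orderOf t = 63 := by
    rw [ht, Nat.card_units, GaloisField.card 2 6 (by norm_num)]
    norm_num
  have h9 : orderOf (t ^ 9) = 7 := by
    rw [orderOf_pow_of_dvd (by norm_num) (by rw [hc]; norm_num), hc]
  have h21 : orderOf (t ^ 21) = 3 := by
    rw [orderOf_pow_of_dvd (by norm_num) (by rw [hc]; norm_num), hc]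
  have h2 : (2 : GaloisField 2 6) = 0 := two_zero
  have hω : ((t ^ 21 : (GaloisField 2 6)ˣ) : GaloisField 2 6) ^ 2 + ((t ^ 21 : (GaloisField 2 6)ˣ) : GaloisField 2 6) +
      1 = 0 := by
    have h3 := pow_one' h21
    have h4 := pow_ne (k := 1) h21 (by norm_num)
    rw [pow_one] at h4
    refine mul_left_cancel₀ (sub_ne_zero.2 h4) ?_
    rw [mul_zero]
    linear_combination h3
  have hν3 := pow_one' h9
  have hν1 := pow_ne (k := 1) h9 (by norm_num)
  rw [pow_one] at hν1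
  set y : GaloisField 2 6 := ((t ^ 9 : (GaloisField 2 6)ˣ) : GaloisField 2 6) with hy
  have h5 : (y ^ 3 + y + 1) * (y ^ 3 + y ^ 2 + 1) = 0 := by
    refine mul_left_cancel₀ (sub_ne_zero.2 hν1) ?_
    rw [mul_zero]
    linear_combination hν3 + (y ^ 4 - y ^ 3) * h2
  rcases mul_eq_zero.1 h5 with h6 | h6
  · refine ⟨GaloisField 2 6, inferInstance, hfin, inferInstance, (t ^ 9)⁻¹, t ^ 21, by rw [orderOf_inv, h9], h21, ?_, hω⟩
    have hy0 : y ≠ 0 := Units.ne_zero _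
    rw [Units.val_inv_eq_inv_val, ← hy]
    field_simp
    linear_combination h6
  · exact ⟨GaloisField 2 6, inferInstance, hfin, inferInstance, t ^ 9, t ^ 21, h9, h21, h6, hω⟩

theorem diag3 {F : Type*} [Field F] [CharP F 2] (ι : ZMod 2 →+* F) {ν : Fˣ} (h7 : orderOf ν = 7)
    (h : (ν : F) ^ 3 + (ν : F) ^ 2 + 1 = 0) :
    ∃ P : Matrix.SpecialLinearGroup (Fin 3) F,
      Matrix.SpecialLinearGroup.map ι Cfsg.Agent.H584.Ore.Tab.XX0 = P * dg3 ν (ν ^ 3) * P⁻¹ := by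
  have h2 : (2 : F) = 0 := two_zero
  have hν0 : (ν : F) ≠ 0 := ν.ne_zero
  have hM : (Matrix.SpecialLinearGroup.map ι Cfsg.Agent.H584.Ore.Tab.XX0).1 = !![0, 0, 1; 0, 1, 1; 1, 1, 0] := by
    change (Cfsg.Agent.H584.Ore.Tab.X0).map ι = _
    ext i j
    (revert i j; simp only [Cfsg.Agent.H584.Ore.Tab.X0, _root_.Fin.forall_fin_succ, _root_.Matrix.map_apply, _root_.Matrix.of_apply, _root_.Matrix.cons_val', _root_.Matrix.cons_val_fin_one, Fin.isValue, _root_.Matrix.cons_val_zero, _root_.Matrix.cons_val_succ, _root_.forall_const, _root_.map_zero, _root_.map_one, _root_.and_self, _root_.implies_true])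
  have hl : Function.Injective (![(ν : F), (ν : F) ^ 2, (ν : F) ^ 4] : Fin 3 → F) := by
    have e1 := pow_ne (k := 1) h7 (by norm_num)
    have e2 := pow_ne (k := 2) h7 (by norm_num)
    have e3 := pow_ne (k := 3) h7 (by norm_num)
    have g1 : (ν : F) ≠ (ν : F) ^ 2 := fun h => e1 (mul_left_cancel₀ hν0 (by linear_combination -h))
    have g2 : (ν : F) ≠ (ν : F) ^ 4 := fun h => e3 (mul_left_cancel₀ hν0 (by linear_combination -h))
    have g3 : (ν : F) ^ 2 ≠ (ν : F) ^ 4 := fun h => e2 (mul_left_cancel₀ (pow_ne_zero 2 hν0) (by linear_combination -h))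
    intro i j hij
    fin_cases i <;> fin_cases j
    · rfl
    · exact absurd hij g1
    · exact absurd hij g2
    · exact absurd hij.symm g1
    · rfl
    · exact absurd hij g3
    · exact absurd hij.symm g2
    · exact absurd hij.symm g3
    · rfl
  have hc : (!![0, 0, 1; 0, 1, 1; 1, 1, 0] : Matrix (Fin 3) (Fin 3) F).charpoly =
      ∏ i, (X - C ((![(ν : F), (ν : F) ^ 2, (ν : F) ^ 4] : Fin 3 → F) i)) := by
    rw [Matrix.charpoly, Matrix.det_fin_three, Fin.prod_univ_three]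
    have h2' : (2 : Polynomial F) = 0 := (map_ofNat C 2).symm.trans (by rw [h2, map_zero])
    have h' : (C (ν : F)) ^ 3 + (C (ν : F)) ^ 2 + 1 = 0 := by
      have := congrArg (C : F → Polynomial F) h
      simpa only [_root_.map_add, _root_.map_pow, _root_.map_one, _root_.map_zero] using this
    simp only [_root_.Fin.isValue, _root_.Matrix.charmatrix_apply_eq, _root_.Matrix.of_apply, _root_.Matrix.cons_val', _root_.Matrix.cons_val_zero, _root_.Matrix.cons_val_fin_one, _root_.map_zero, _root_.sub_zero, _root_.Matrix.cons_val_one, _root_.map_one, _root_.Matrix.cons_val, _root_.ne_eq, _root_.Fin.reduceEq, _root_.not_false_eq_true, _root_.Matrix.charmatrix_apply_ne, _root_.mul_neg, _root_.mul_one, _root_.neg_neg, _root_.zero_ne_one, _root_.neg_zero, _root_.one_ne_zero, _root_.MulZeroClass.mul_zero, _root_.MulZeroClass.zero_mul, _root_.add_zero, _root_.neg_mul, _root_.one_mul, _root_.neg_sub, _root_.map_pow]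
    set n : Polynomial F := C (ν : F)
    linear_combination ((n - 1) * X ^ 2 - n ^ 3 * X + (n ^ 4 - n ^ 3 + n ^ 2 - 2 * n + 3)) * h' +
      (n ^ 2 * X ^ 2 - X - 2 * n ^ 2 + n - 1) * h2'
  obtain ⟨P, hP⟩ := exists_diag hl (M := (Matrix.SpecialLinearGroup.map ι Cfsg.Agent.H584.Ore.Tab.XX0).1)
    (by rw [hM]; exact hc) (by norm_num)
  refine ⟨P, ?_⟩
  rw [eq_mul_inv_iff_mul_eq]
  apply Subtype.ext
  refine hP.trans ?_
  change _ = P.1 * (dg3 ν (ν ^ 3)).1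
  congr 1
  change _ = Matrix.diagonal _
  congr 1
  funext i
  have h7' := pow_one' h7
  fin_cases i
  · rfl
  · simp
    field_simp
  · simp
    field_simp
    linear_combination h7'

theorem diag2 {F : Type*} [Field F] [CharP F 2] (ι : ZMod 2 →+* F) {ω : Fˣ} (h3 : orderOf ω = 3)
    (h : (ω : F) ^ 2 + (ω : F) + 1 = 0) :
    ∃ Q : Matrix.SpecialLinearGroup (Fin 2) F,
      Matrix.SpecialLinearGroup.map ι Cfsg.Agent.H584.Ore.Tab.w = Q * _root_.Cfsg.Agent.FixBN.FieldRGD.dd (ω : F) ω.ne_zero * Q⁻¹ := by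
  have h2 : (2 : F) = 0 := two_zero
  have hω0 : (ω : F) ≠ 0 := ω.ne_zero
  have hM : (Matrix.SpecialLinearGroup.map ι Cfsg.Agent.H584.Ore.Tab.w).1 = !![1, 1; 1, 0] := by
    change (!![1, 1; 1, 0] : Matrix (Fin 2) (Fin 2) (ZMod 2)).map ι = _
    ext i j
    (revert i j; simp only [_root_.Fin.forall_fin_succ, _root_.Matrix.map_apply, _root_.Matrix.of_apply, _root_.Matrix.cons_val', _root_.Matrix.cons_val_fin_one, Fin.isValue, _root_.Matrix.cons_val_zero, _root_.Matrix.cons_val_succ, _root_.forall_const, _root_.map_one, _root_.and_self, _root_.map_zero, _root_.implies_true])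
  have h3' := pow_one' h3
  have hl : Function.Injective (![(ω : F), (ω : F)⁻¹] : Fin 2 → F) := by
    have e2 := pow_ne (k := 2) h3 (by norm_num)
    have g1 : (ω : F) ≠ (ω : F)⁻¹ := fun h => e2 (by
      have := mul_inv_cancel₀ hω0
      rw [← h] at this
      rw [pow_two, this])
    intro i j hij
    fin_cases i <;> fin_cases j
    · rfl
    · exact absurd hij g1
    · exact absurd hij.symm g1
    · rfl
  have hinv : (ω : F)⁻¹ = (ω : F) ^ 2 := inv_eq_of_mul_eq_one_right (by rw [← h3']; ring)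
  have hc : (!![1, 1; 1, 0] : Matrix (Fin 2) (Fin 2) F).charpoly =
      ∏ i, (X - C ((![(ω : F), (ω : F)⁻¹] : Fin 2 → F) i)) := by
    rw [Matrix.charpoly_fin_two, Fin.prod_univ_two]
    have h2' : (2 : Polynomial F) = 0 := (map_ofNat C 2).symm.trans (by rw [h2, map_zero])
    have h' : (C (ω : F)) ^ 2 + (C (ω : F)) + 1 = 0 := by
      have := congrArg (C : F → Polynomial F) h
      simpa only [_root_.map_add, _root_.map_pow, _root_.map_one, _root_.map_zero] using this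
    have h3'' : (C (ω : F)) ^ 3 = 1 := by
      have := congrArg (C : F → Polynomial F) h3'
      simpa only [_root_.map_pow, _root_.map_one] using this
    simp only [Matrix.trace_fin_two, Matrix.det_fin_two, hinv, _root_.Matrix.trace_fin_two, _root_.Fin.isValue, _root_.Matrix.of_apply, _root_.Matrix.cons_val', _root_.Matrix.cons_val_zero, _root_.Matrix.cons_val_fin_one, _root_.Matrix.cons_val_one, _root_.add_zero, _root_.map_one, _root_.one_mul, _root_.Matrix.det_fin_two, _root_.MulZeroClass.mul_zero, _root_.mul_one, _root_.zero_sub, _root_.map_neg, _root_.map_pow]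
    set n : Polynomial F := C (ω : F)
    linear_combination (X : Polynomial F) * h' - h3'' - (X + 1) * h2'
  obtain ⟨P, hP⟩ := exists_diag hl (M := (Matrix.SpecialLinearGroup.map ι Cfsg.Agent.H584.Ore.Tab.w).1)
    (by rw [hM]; exact hc) (by norm_num)
  refine ⟨P, ?_⟩
  rw [eq_mul_inv_iff_mul_eq]
  apply Subtype.ext
  refine hP.trans ?_
  change _ = P.1 * !![(ω : F), 0; 0, (ω : F)⁻¹]
  congr 1
  ext i j
  (revert i j; simp only [_root_.Fin.forall_fin_succ, _root_.Matrix.of_apply, _root_.Matrix.cons_val', _root_.Matrix.cons_val_fin_one, Fin.isValue, _root_.Matrix.cons_val_zero, _root_.Matrix.cons_val_succ, _root_.Fin.succ_zero_eq_one, _root_.IsEmpty.forall_iff, _root_.and_true, _root_.Matrix.diagonal_apply_eq, _root_.ne_eq, _root_.zero_ne_one, _root_.not_false_eq_true, _root_.Matrix.diagonal_apply_ne, _root_.and_self, _root_.Fin.succ_ne_zero, _root_.true_and, _root_.Matrix.cons_val_one])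

/-! ### The theorem -/

/-- **No fixed points.** -/
theorem fixJ {φ : Matrix.SpecialLinearGroup (Fin 3) (ZMod 2) →* ↥(chevE6.group (ZMod 2))}
    (hφ : ∀ a b (hab : a ≠ b) c, φ (Matrix.SpecialLinearGroup.transvection hab c) =
      xc Cfsg.Agent.Nodes.KindE.isType6 (vec chevE6 6 (r6 a b)) (((1 : ℤ) : ZMod 2) * c)) :
    NF (VJ CoxeterMatrix.E₆.toCoxeterSystem Cfsg.Agent.Nodes.KindE.isType6.isCartan (XX chevE6 6 (ZMod 2))
        {0, 1, 3, 5})
      (φ Cfsg.Agent.H584.Ore.Tab.XX0 * (sl Cfsg.Agent.Nodes.KindE.isType6 0 Cfsg.Agent.H584.Ore.Tab.w *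
        sl Cfsg.Agent.Nodes.KindE.isType6 5 Cfsg.Agent.H584.Ore.Tab.w)) ∧
    NF (VNJ CoxeterMatrix.E₆.toCoxeterSystem Cfsg.Agent.Nodes.KindE.isType6.isCartan (XX chevE6 6 (ZMod 2))
        {0, 1, 3, 5})
      (φ Cfsg.Agent.H584.Ore.Tab.XX0 * (sl Cfsg.Agent.Nodes.KindE.isType6 0 Cfsg.Agent.H584.Ore.Tab.w *
        sl Cfsg.Agent.Nodes.KindE.isType6 5 Cfsg.Agent.H584.Ore.Tab.w)) := by
  have hp := Cfsg.Agent.Nodes.KindE.isType6
  obtain ⟨K', _, _, _, ν, ω, h7, h3, hν, hω⟩ := exists_field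
  let ι : ZMod 2 →+* K' := ZMod.castHom (dvd_refl 2) K'
  obtain ⟨P, hP⟩ := diag3 ι h7 hν
  obtain ⟨Q, hQ⟩ := diag2 ι h3 hω
  obtain ⟨φ', hφ'⟩ := Cfsg.Agent.H162.GaussExcMain.exists_hom_D hp (K := K') (ε := 1) (by norm_num)
    Cfsg.Agent.H162.GaussExcMain.rt6.1 Cfsg.Agent.H162.GaussExcMain.rt6.2.1 Cfsg.Agent.H162.GaussExcMain.rt6.2.2.1
    Cfsg.Agent.H162.GaussExcMain.rt6.2.2.2
  obtain ⟨g1, g2⟩ := nf_big hp hφ' h7 h3 P Q
  have e : bc chevE6 ι (φ Cfsg.Agent.H584.Ore.Tab.XX0 * (sl hp 0 Cfsg.Agent.H584.Ore.Tab.w *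
      sl hp 5 Cfsg.Agent.H584.Ore.Tab.w)) = φ' (P * dg3 ν (ν ^ 3) * P⁻¹) *
        (sl hp 0 (Q * _root_.Cfsg.Agent.FixBN.FieldRGD.dd (ω : K') ω.ne_zero * Q⁻¹) * sl hp 5 (Q * dd (ω : K') ω.ne_zero * Q⁻¹)) := by
    rw [map_mul, map_mul, bc_sl, bc_sl, bc_phi hp ι (fun a b hab => (tabR.1 a b hab).1) hφ hφ', hP, hQ]
  rw [← e] at g1 g2
  exact ⟨NF.of_hom _ (bc_injective chevE6 ι) (VJ_le_comap hp ι _) g1,
    NF.of_hom _ (bc_injective chevE6 ι) (VNJ_le_comap hp ι _) g2⟩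

end Cfsg.Agent.H267.Ore.ESix
end

-- part: H584/Ore/ESixTwo
section
/-!
# Row `E₆(2)` of S2443 and S4171
-/

set_option autoImplicit false
set_option linter.unusedSectionVars false

namespace Cfsg.Agent.H584.Ore.ESixTwo

open Cfsg.Lie Cfsg.Agent.ChevalleyStructure Cfsg.Agent.ChevalleyStructure.Elts Cfsg.Agent.Nodes.Bruhat
  Cfsg.Agent.ChevalleyStructure.CoxeterGeomTypes Cfsg.Agent.Nodes.RGDChev Cfsg.Agent.Nodes.LeviDec
  Cfsg.Agent.OddHalf.NI.ModelChev Cfsg.Agent.KFacts.RgdChevCoord Cfsg.Agent.Nodes.KindE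
  Cfsg.Agent.H162.GaussExcMain Cfsg.Agent.H584.Ore.Tab Cfsg.Agent.H584.Ore.Build Cfsg.Agent.H584.Ore.ESix
  Cfsg.Agent.H928.Ore.Frame
open Matrix (SpecialLinearGroup)
open Matrix.SpecialLinearGroup (transvection)

theorem pow_seven {G H : Type*} [Group G] [Group H] (f : G →* H) {a : G} (h : a * a * a * a * a * a * a = 1) :
    orderOf (f a) ∣ 21 := by
  apply orderOf_dvd_of_pow_eq_one
  have h1 : f a ^ 7 = 1 := by
    rw [← map_one f, ← h]
    simp only [map_mul, pow_succ, pow_zero, one_mul]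
  rw [show 21 = 7 * 3 from rfl, pow_mul, h1, one_pow]

theorem pow_thr {G H : Type*} [Group G] [Group H] (f : G →* H) {a : G} (h : a * a * a = 1) : orderOf (f a) ∣ 21 := by
  apply orderOf_dvd_of_pow_eq_one
  have h1 : f a ^ 3 = 1 := by
    rw [← map_one f, ← h]
    simp only [map_mul, pow_succ, pow_zero, one_mul]
  rw [show 21 = 3 * 7 from rfl, pow_mul, h1, one_pow]

theorem ord_three {G : Type*} [Group G] {a b c : G} (h : Commute a (b * c)) (h' : Commute b c) (ha : orderOf a ∣ 21)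
    (hb : orderOf b ∣ 21) (hc : orderOf c ∣ 21) : orderOf (a * (b * c)) ∣ 21 := by
  rw [orderOf_dvd_iff_pow_eq_one] at *
  rw [h.mul_pow, h'.mul_pow, ha, hb, hc, one_mul, one_mul]

/-- **The class of order `21`.** -/
theorem exists_data : ∃ c z : ↥(chevE6.group (ZMod 2)), z * z = 1 ∧ z * c * z⁻¹ = c⁻¹ ∧ orderOf c ∣ 21 ∧
    ∀ g, ∃ x y : ↥(chevE6.group (ZMod 2)), g = (x * c * x⁻¹) * (y * c * y⁻¹) := by
  obtain ⟨φ, hφ⟩ := exists_hom_D isType6 (K := ZMod 2) (ε := 1) (by norm_num) rt6.1 rt6.2.1 rt6.2.2.1 rt6.2.2.2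
  have hφ' : ∀ a b (hab : a ≠ b) c, φ (transvection hab c) =
      xc isType6 (vec chevE6 6 (r6 a b)) ((fun _ _ : Fin 3 => ((1 : ℤ) : ZMod 2)) a b * c) := hφ
  have c10 := comm_blocks isType6 chkJ1.tab.rlt chkJ2.tab.rlt o2 hφ' (sl_tv isType6 0) XX0 w
  have c15 := comm_blocks isType6 chkJ1.tab.rlt chkJ3.tab.rlt o3 hφ' (sl_tv isType6 5) XX0 w
  obtain ⟨z, hz2, hz⟩ := Cfsg.Agent.H692.Ore.ESix.rev isType6 hφ tr_XX0 tr_w (c10.mul_right c15).eq
  obtain ⟨hP, hN⟩ := Cfsg.Agent.H267.Ore.ESix.fixJ hφ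
  refine ⟨_, z, hz2, hz, ?_, square hφ hz hP hN⟩
  have c05 := comm_blocks isType6 chkJ2.tab.rlt chkJ3.tab.rlt o1 (sl_tv isType6 (K := ZMod 2) 0) (sl_tv isType6 5) w w
  have h7 : XX0 * XX0 * XX0 * XX0 * XX0 * XX0 * XX0 = 1 := by
    apply Subtype.ext
    change X0 * X0 * X0 * X0 * X0 * X0 * X0 = 1
    decide +kernel
  have k1 := pow_seven φ h7
  have k2 := pow_thr (sl isType6 (K := ZMod 2) 0) w_three
  have k3 := pow_thr (sl isType6 (K := ZMod 2) 5) w_three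
  have k4 := c10.mul_right c15
  have k5 := ord_three k4 c05 k1 k2 k3
  exact k5

/-- **`E₆(2)`, S2443.** -/
theorem allC_E6_two {K : Type*} [Field K] (hK : Nat.card K = 2) : Cfsg.Agent.H777.Ore.AllC ↥(chevE6.group K) := by
  obtain ⟨c, z, -, hz, -, h⟩ := exists_data
  exact allC_congr chevE6 hK (allC_of hz h)

/-- **`E₆(2)`, S4171.** -/
theorem inv4_E6_two {K : Type*} [Field K] (hK : Nat.card K = 2) : Cfsg.Agent.H777.Ore.Inv4 ↥(chevE6.group K) := by
  obtain ⟨c, z, hz2, hz, -, h⟩ := exists_data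
  exact inv4_congr chevE6 hK (inv4_of hz h hz2)

end Cfsg.Agent.H584.Ore.ESixTwo
end

-- part: H197/OreF/Fixed
section
/-!
`F₄(2)`: the homomorphism `SL₃(2) × SL₂(2) → L_J` (`J` = all nodes but the node 1) and the element without fixed points
(S2443, S4171).
-/

set_option autoImplicit false
set_option linter.unusedSectionVars false

namespace Cfsg.Agent.H197.OreF

open CoxeterSystem Cfsg.Agent.ChevalleyStructure.CoxeterGeom Cfsg.Agent.Tits.Roots Cfsg.Agent.Tits.Core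
  Cfsg.Agent.Nodes.Reps Cfsg.Agent.Nodes.BNOf Cfsg.Agent.Nodes.RGDLib Cfsg.Agent.Nodes.Bruhat
  Cfsg.Agent.Nodes.OppDec Cfsg.Agent.Nodes.LeviDec Cfsg.Agent.Nodes.KindChev Cfsg.Agent.Nodes.ChevCls
  Cfsg.Agent.OddHalf.NI.ModelChev Cfsg.Agent.Nodes.StabComb
  Cfsg.Agent.H162.GaussDec Cfsg.Agent.H162.GaussLevi Cfsg.Agent.H162.GaussSL Cfsg.Agent.H162.GaussReg
  Cfsg.Agent.H928.Ore.Frame Cfsg.Agent.H928.Ore.Fix Cfsg.Agent.H928.Ore.Block
open Cfsg.Lie Cfsg.Agent.ChevalleyStructure Cfsg.Agent.ChevalleyStructure.Elts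
  Cfsg.Agent.ChevalleyStructure.RootVec Cfsg.Agent.ChevalleyStructure.NPerm
  Cfsg.Agent.ChevalleyStructure.CoxeterGeomTypes Cfsg.Agent.Nodes.RGDChev Cfsg.Agent.KFacts.RgdChevCoord
open Cfsg.Agent.FixBN.FieldRGD (uu vv dd ww)
open Cfsg.Agent.TitsThree.KExcRT Cfsg.Agent.AGraded
open scoped MatrixGroups

universe u v

/-! ### Homomorphisms -/

/-- two homomorphisms commute if the images of the transvections commute -/
theorem comm_hom {Y : Type*} [Group Y] {n m : ℕ} {K : Type*} [Field K]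
    (f : Matrix.SpecialLinearGroup (Fin n) K →* Y) (g : Matrix.SpecialLinearGroup (Fin m) K →* Y)
    (h : ∀ a b (hab : a ≠ b) c a' b' (hab' : a' ≠ b') c', f (Matrix.SpecialLinearGroup.transvection hab c) *
      g (Matrix.SpecialLinearGroup.transvection hab' c') =
      g (Matrix.SpecialLinearGroup.transvection hab' c') * f (Matrix.SpecialLinearGroup.transvection hab c))
    (A : Matrix.SpecialLinearGroup (Fin n) K) (B : Matrix.SpecialLinearGroup (Fin m) K) : Commute (f A) (g B) := by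
  have h1 : ∀ a' b' (hab' : a' ≠ b') c' A, f A * g (Matrix.SpecialLinearGroup.transvection hab' c') =
      g (Matrix.SpecialLinearGroup.transvection hab' c') * f A := by
    intro a' b' hab' c' A
    have h2 : (MulAut.conj (g (Matrix.SpecialLinearGroup.transvection hab' c'))).toMonoidHom.comp f = f := by
      refine hom_ext fun a b hab c => ?_
      change g _ * f _ * (g _)⁻¹ = f _
      rw [← h a b hab c a' b' hab' c', mul_inv_cancel_right]
    have h3 := DFunLike.congr_fun h2 A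
    change g _ * f A * (g _)⁻¹ = f A at h3
    exact (mul_inv_eq_iff_eq_mul.1 h3).symm
  have h4 : (MulAut.conj (f A)).toMonoidHom.comp g = g := by
    refine hom_ext fun a' b' hab' c' => ?_
    change f A * g _ * (f A)⁻¹ = g _
    rw [h1, mul_inv_cancel_right]
  have h5 := DFunLike.congr_fun h4 B
  change f A * g B * (f A)⁻¹ = g B at h5
  exact mul_inv_eq_iff_eq_mul.1 h5

theorem map_tv {n : ℕ} {K : Type u} {K' : Type v} [Field K] [Field K'] (ι : K →+* K') {a b : Fin n} (hab : a ≠ b)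
    (c : K) : Matrix.SpecialLinearGroup.map ι (Matrix.SpecialLinearGroup.transvection hab c) =
      Matrix.SpecialLinearGroup.transvection hab (ι c) := by
  apply Subtype.ext
  ext i j
  change ι ((1 + Matrix.single a b c) i j) = (1 + Matrix.single a b (ι c)) i j
  rw [Matrix.add_apply, Matrix.add_apply, map_add, Matrix.one_apply, Matrix.one_apply, Matrix.single_apply,
    Matrix.single_apply]
  split_ifs <;> simp

section

variable {D : ChevalleyDatum} {l : ℕ} {M : CoxeterMatrix (Fin l)} (hp : IsType D l M) {K : Type u} {K' : Type v}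
  [Field K] [Field K'] (ι : K →+* K')
  {n : ℕ} {r : Fin n → Fin n → ℕ} {ε : ℤ} (hr : ∀ a b, a ≠ b → r a b < D.nroots)
  {φ : Matrix.SpecialLinearGroup (Fin n) K →* ↥(D.group K)}
  (hφ : ∀ a b (hab : a ≠ b) c, φ (Matrix.SpecialLinearGroup.transvection hab c) = xc hp (vec D l (r a b)) ((ε : K) * c))
  {φ' : Matrix.SpecialLinearGroup (Fin n) K' →* ↥(D.group K')}
  (hφ' : ∀ a b (hab : a ≠ b) c, φ' (Matrix.SpecialLinearGroup.transvection hab c) =
    xc hp (vec D l (r a b)) ((ε : K') * c))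

include hr hφ hφ'

/-- the blocks and the base change -/
theorem bc_phi (A : Matrix.SpecialLinearGroup (Fin n) K) :
    bc D ι (φ A) = φ' (Matrix.SpecialLinearGroup.map ι A) := by
  have h1 : (bc D ι).comp φ = φ'.comp (Matrix.SpecialLinearGroup.map ι) := by
    refine hom_ext fun a b hab c => ?_
    change bc D ι (φ _) = φ' (Matrix.SpecialLinearGroup.map ι _)
    rw [hφ, bc_xc hp ι (hr a b hab), map_tv, hφ', map_mul, map_intCast]
  exact DFunLike.congr_fun h1 A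

end

/-- the rank one homomorphism on transvections -/
theorem sl_tv {D : ChevalleyDatum} {l : ℕ} {M : CoxeterMatrix (Fin l)} (hp : IsType D l M) {K : Type u} [Field K]
    (i : Fin l) {r : Fin 2 → Fin 2 → ℕ} (h1 : r 0 1 = D.simple i) (h2 : r 1 0 = D.neg (D.simple i))
    (a b : Fin 2) (hab : a ≠ b) (c : K) :
    sl hp i (Matrix.SpecialLinearGroup.transvection hab c) = xc hp (vec D l (r a b)) (((1 : ℤ) : K) * c) := by
  have e1 : ∀ c : K, Matrix.SpecialLinearGroup.transvection (show (0 : Fin 2) ≠ 1 by decide) c = uu c := by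
    intro c
    apply Subtype.ext
    ext i j
    (revert i j; simp only [Matrix.SpecialLinearGroup.transvection, Matrix.transvection, uu, _root_.Fin.forall_fin_succ, Fin.isValue, _root_.Matrix.add_apply, _root_.Matrix.of_apply, _root_.Matrix.cons_val', _root_.Matrix.cons_val_fin_one, _root_.one_ne_zero, _root_.and_false, _root_.not_false_eq_true, _root_.Matrix.single_apply_of_ne, _root_.add_zero, _root_.Matrix.cons_val_zero, _root_.Matrix.cons_val_succ, _root_.Fin.succ_zero_eq_one, _root_.IsEmpty.forall_iff, _root_.and_true, _root_.Matrix.one_apply_eq, Nat.reduceAdd, _root_.ne_eq, _root_.zero_ne_one, _root_.Matrix.one_apply_ne, _root_.Matrix.single_apply_same, _root_.zero_add, _root_.and_self, _root_.Fin.succ_ne_zero, _root_.true_and])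
  have e2 : ∀ c : K, Matrix.SpecialLinearGroup.transvection (show (1 : Fin 2) ≠ 0 by decide) c = vv c := by
    intro c
    apply Subtype.ext
    ext i j
    (revert i j; simp only [Matrix.SpecialLinearGroup.transvection, Matrix.transvection, vv, _root_.Fin.forall_fin_succ, Fin.isValue, _root_.Matrix.add_apply, _root_.Matrix.of_apply, _root_.Matrix.cons_val', _root_.Matrix.cons_val_fin_one, _root_.Matrix.cons_val_zero, _root_.Matrix.cons_val_succ, _root_.Fin.succ_zero_eq_one, _root_.zero_ne_one, _root_.and_false, _root_.not_false_eq_true, _root_.Matrix.single_apply_of_ne, _root_.add_zero, _root_.IsEmpty.forall_iff, _root_.and_true, _root_.Matrix.one_apply_eq, _root_.one_ne_zero, Nat.reduceAdd, _root_.ne_eq, _root_.Matrix.one_apply_ne, _root_.and_self, _root_.Fin.succ_ne_zero, _root_.zero_add, _root_.Matrix.single_apply_same])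
  have hs : D.simple i < D.nroots := _root_.Cfsg.Agent.ChevalleyStructure.NPerm.simple_lt hp.inList (lt_rank hp i)
  rw [Int.cast_one, one_mul]
  fin_cases a <;> fin_cases b
  · exact absurd rfl hab
  · refine (congrArg (sl hp i) (e1 c)).trans ?_
    rw [sl_uu]
    change _ = xc hp (vec D l (r 0 1)) c
    rw [h1, vec_simple hp i]
  · refine (congrArg (sl hp i) (e2 c)).trans ?_
    rw [sl_vv]
    change _ = xc hp (vec D l (r 1 0)) c
    rw [h2, vec_neg hp hs, vec_simple hp i]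
  · exact absurd rfl hab

/-! ### The tables of `F₄` -/

/-- the long block: the nodes 3, 2 -/
def rL : Fin 3 → Fin 3 → ℕ := ![![0, 24, 26], ![23, 0, 25], ![21, 22, 0]]

/-- the short block: the nodes 1, 0 -/
def rS : Fin 3 → Fin 3 → ℕ := ![![0, 27, 34], ![20, 0, 33], ![13, 14, 0]]

/-- the node 0 -/
def r0 : Fin 2 → Fin 2 → ℕ := ![![0, 33], ![14, 0]]

theorem rtL : RTa chevF4 rL ∧ (RTb chevF4 rL fun _ _ => 1) ∧ RTc chevF4 rL ∧
    ∀ i j, i ≠ j → rL j i = chevF4.neg (rL i j) := by decide +kernel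

theorem rtS : RTa chevF4 rS ∧ (RTb chevF4 rS fun _ _ => 1) ∧ RTc chevF4 rS ∧
    ∀ i j, i ≠ j → rS j i = chevF4.neg (rS i j) := by decide +kernel

theorem simples : chevF4.simple 0 = 33 ∧ chevF4.simple 1 = 27 ∧ chevF4.simple 2 = 25 ∧ chevF4.simple 3 = 24 ∧
    chevF4.neg 33 = 14 := by decide +kernel

theorem tabC : ∀ a b, a ≠ b → ∀ a' b', a' ≠ b' → r0 a' b' < chevF4.nroots ∧ r0 a' b' ≠ rL a b ∧
    r0 a' b' ≠ chevF4.neg (rL a b) ∧ chevF4.commTerms (rL a b) (r0 a' b') = [] := by decide +kernel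

theorem tabJ : ∀ a b, a ≠ b → vec chevF4 4 (rL a b) 1 = 0 ∧ chevF4.cartan 0 (rL a b) = 0 := by decide +kernel

theorem tabJ' : ∀ a b, a ≠ b → r0 a b < chevF4.nroots ∧ vec chevF4 4 (r0 a b) 1 = 0 := by decide +kernel

theorem tabN : ∀ s < chevF4.nroots, vec chevF4 4 s 1 ≠ 0 →
    ¬ ((3 : ℤ) ∣ chevF4.cartan 0 s ∧ (7 : ℤ) ∣ chevF4.cartan 3 s + 3 * chevF4.cartan 2 s) := by decide +kernel

/-! ### The field with 64 elements -/

/-- the elements of order 7 and 3 -/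
structure Fld (K' : Type) [Field K'] (x y : K'ˣ) : Prop where
  two : (2 : K') = 0
  seven : ∀ n : ℤ, x ^ n = 1 → 7 ∣ n
  x3 : (x : K') ^ 3 + (x : K') ^ 2 + 1 = 0
  three : ∀ n : ℤ, y ^ n = 1 → 3 ∣ n
  y2 : (y : K') ^ 2 + (y : K') + 1 = 0

theorem exists_fld : ∃ (K' : Type) (_ : Field K') (_ : Finite K') (_ : ZMod 2 →+* K') (x y : K'ˣ), Fld K' x y := by
  have : Fact (Nat.Prime 2) := ⟨Nat.prime_two⟩
  let K' := GaloisField 2 6
  have hcard : Nat.card K' = 2 ^ 6 := GaloisField.card 2 6 (by norm_num)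
  have h2 : (2 : K') = 0 := by
    have := CharP.cast_eq_zero K' 2
    exact_mod_cast this
  classical
  have : Fintype K' := Fintype.ofFinite K'
  obtain ⟨t, ht⟩ := IsCyclic.exists_ofOrder_eq_natCard (α := K'ˣ)
  have ht' : orderOf t = 63 := by
    rw [ht, Nat.card_units, hcard]
    norm_num
  have e7 : orderOf (t ^ 9) = 7 := by
    rw [orderOf_pow, ht']
    norm_num
  have e3 : orderOf (t ^ 21) = 3 := by
    rw [orderOf_pow, ht']
    norm_num
  -- the cube root of unity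
  have hy : (((t ^ 21 : K'ˣ) : K')) ^ 2 + ((t ^ 21 : K'ˣ) : K') + 1 = 0 := by
    have h1 : (t ^ 21) ^ 3 = 1 := by rw [← e3]; exact pow_orderOf_eq_one _
    have h3 : ((t ^ 21 : K'ˣ) : K') ≠ 1 := by
      intro h
      have h4 : t ^ 21 = 1 := Units.ext h
      rw [h4, orderOf_one] at e3
      omega
    have h5 : ((t ^ 21 : K'ˣ) : K') ^ 3 = 1 := by
      rw [← Units.val_pow_eq_pow_val, h1, Units.val_one]
    have h6 : (((t ^ 21 : K'ˣ) : K') - 1) * ((((t ^ 21 : K'ˣ) : K')) ^ 2 + ((t ^ 21 : K'ˣ) : K') + 1) = 0 := by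
      linear_combination h5
    exact (mul_eq_zero.1 h6).resolve_left (sub_ne_zero.2 h3)
  -- the element of order 7
  have hx : ∃ x : K'ˣ, orderOf x = 7 ∧ (x : K') ^ 3 + (x : K') ^ 2 + 1 = 0 := by
    set u : K'ˣ := t ^ 9 with hu
    have h1 : (u : K') ^ 7 = 1 := by
      rw [← Units.val_pow_eq_pow_val, ← e7, pow_orderOf_eq_one, Units.val_one]
    have h3 : (u : K') ≠ 1 := by
      intro h
      have h4 : u = 1 := Units.ext h
      rw [h4, orderOf_one] at e7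
      omega
    have h6 : ((u : K') - 1) * (((u : K') ^ 3 + (u : K') ^ 2 + 1) * ((u : K') ^ 3 + (u : K') + 1)) = 0 := by
      linear_combination h1 + ((u : K') ^ 4 - (u : K') ^ 3) * h2
    have h7 := (mul_eq_zero.1 h6).resolve_left (sub_ne_zero.2 h3)
    rcases mul_eq_zero.1 h7 with h | h
    · exact ⟨u, e7, h⟩
    · refine ⟨u⁻¹, by rw [orderOf_inv, e7], ?_⟩
      rw [Units.val_inv_eq_inv_val]
      have h0 : (u : K') ≠ 0 := u.ne_zero
      have h8 : (u : K')⁻¹ * (u : K') = 1 := inv_mul_cancel₀ h0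
      linear_combination ((u : K')⁻¹) ^ 3 * h - (((u : K')⁻¹ * (u : K')) ^ 2 + (u : K')⁻¹ * (u : K') + 1 +
        ((u : K')⁻¹) ^ 2) * h8
  obtain ⟨x, hx7, hx⟩ := hx
  refine ⟨K', inferInstance, inferInstance, ZMod.castHom (dvd_refl 2) K', x, t ^ 21, h2, fun n hn => ?_, hx,
    fun n hn => ?_, hy⟩
  · rw [← orderOf_dvd_iff_zpow_eq_one, hx7] at hn
    exact_mod_cast hn
  · rw [← orderOf_dvd_iff_zpow_eq_one, e3] at hn
    exact_mod_cast hn

section

variable {K' : Type} [Field K'] {x y : K'ˣ} (F : Fld K' x y)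

include F

theorem Fld.x7 : (x : K') ^ 7 = 1 := by
  linear_combination ((x : K') - 1) * ((x : K') ^ 3 + (x : K') + 1) * F.x3 - ((x : K') ^ 4 - (x : K') ^ 3) * F.two

theorem Fld.y3 : (y : K') ^ 3 = 1 := by
  linear_combination ((y : K') - 1) * F.y2

attribute [-instance] instNoNatZeroDivisorsOfIsAddTorsionFree instIsCharPOfIsLeftCancelAddOfCharP in
theorem diag3 (ι : ZMod 2 →+* K') : ∃ P : Matrix.SpecialLinearGroup (Fin 3) K',
    Matrix.SpecialLinearGroup.map ι Cfsg.Agent.H584.Ore.Tab.XX0 = P * dg3 x (x ^ 3) * P⁻¹ := by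
  have h2 := F.two
  have hx := F.x3
  have h7 := F.x7
  let P0 : Matrix (Fin 3) (Fin 3) K' := !![1, 1, 1; (x : K') ^ 2 + 1, (x : K') ^ 4 + 1, (x : K') + 1;
    (x : K'), (x : K') ^ 2, (x : K') ^ 4]
  have hd : P0.det = 1 := by
    rw [Matrix.det_fin_three]
    simp only [P0, Matrix.of_apply, Matrix.cons_val', Matrix.cons_val_zero, Matrix.cons_val_one, Matrix.cons_val]
    grobner
  let P : Matrix.SpecialLinearGroup (Fin 3) K' := ⟨P0, hd⟩
  refine ⟨P, eq_mul_inv_iff_mul_eq.2 ?_⟩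
  apply Subtype.ext
  have e1 : ((Matrix.SpecialLinearGroup.map ι Cfsg.Agent.H584.Ore.Tab.XX0 : Matrix.SpecialLinearGroup (Fin 3) K') :
      Matrix (Fin 3) (Fin 3) K') = !![0, 0, 1; 0, 1, 1; 1, 1, 0] := by
    ext i j
    change ι (Cfsg.Agent.H584.Ore.Tab.X0 i j) = _
    (revert i j; simp only [Cfsg.Agent.H584.Ore.Tab.X0, _root_.Fin.forall_fin_succ, _root_.Matrix.of_apply, _root_.Matrix.cons_val', _root_.Matrix.cons_val_fin_one, Fin.isValue, _root_.Matrix.cons_val_zero, _root_.Matrix.cons_val_succ, _root_.forall_const, _root_.map_zero, _root_.map_one, _root_.and_self, _root_.implies_true])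
  have e3 : ((x⁻¹ * x ^ 3 : K'ˣ) : K') = (x : K') ^ 2 := by
    have : x⁻¹ * x ^ 3 = x ^ 2 := by group
    rw [this, Units.val_pow_eq_pow_val]
  have e4 : (((x ^ 3)⁻¹ : K'ˣ) : K') = (x : K') ^ 4 := by
    have h8 : x ^ 7 = 1 := Units.ext (by rw [Units.val_pow_eq_pow_val, h7, Units.val_one])
    have : (x ^ 3)⁻¹ = x ^ 4 := by
      rw [inv_eq_iff_mul_eq_one, ← pow_add, h8]
    rw [this, Units.val_pow_eq_pow_val]
  have e2 : ((dg3 x (x ^ 3) : Matrix.SpecialLinearGroup (Fin 3) K') : Matrix (Fin 3) (Fin 3) K') =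
      !![(x : K'), 0, 0; 0, (x : K') ^ 2, 0; 0, 0, (x : K') ^ 4] := by
    ext i j
    change Matrix.diagonal ![(x : K'), ((x⁻¹ * x ^ 3 : K'ˣ) : K'), (((x ^ 3)⁻¹ : K'ˣ) : K')] i j = _
    rw [e3, e4]
    (revert i j; simp only [_root_.Fin.forall_fin_succ, _root_.Nat.succ_eq_add_one, Nat.reduceAdd, _root_.Matrix.of_apply, _root_.Matrix.cons_val', _root_.Matrix.cons_val_fin_one, Fin.isValue, _root_.Matrix.cons_val_zero, _root_.Matrix.cons_val_succ, _root_.Fin.succ_zero_eq_one, _root_.Fin.succ_one_eq_two, _root_.IsEmpty.forall_iff, _root_.and_true, _root_.Matrix.diagonal_apply_eq, _root_.ne_eq, _root_.zero_ne_one, _root_.not_false_eq_true, _root_.Matrix.diagonal_apply_ne, Fin.reduceEq, _root_.and_self, _root_.Fin.succ_ne_zero, _root_.Matrix.cons_val_one, _root_.true_and, _root_.Matrix.cons_val])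
  rw [m3 e1 (show (P : Matrix (Fin 3) (Fin 3) K') = P0 from rfl), m3 (show (P : Matrix (Fin 3) (Fin 3) K') = P0 from rfl) e2]
  ext i j
  (revert i j; simp only [P0, Matrix.mul_apply, Fin.sum_univ_three, _root_.Fin.forall_fin_succ, _root_.Matrix.of_apply, _root_.Matrix.cons_val', _root_.Matrix.cons_val_fin_one, Fin.isValue, _root_.Matrix.cons_val_zero, _root_.Matrix.cons_val_one, _root_.Matrix.cons_val, _root_.mul_one, _root_.MulZeroClass.mul_zero, _root_.add_zero, _root_.Matrix.cons_val_succ, _root_.zero_add, _root_.forall_const, _root_.MulZeroClass.zero_mul, _root_.one_mul, _root_.and_self, _root_.true_and]) <;> (clear * - h2 hx; grind)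

attribute [-instance] instNoNatZeroDivisorsOfIsAddTorsionFree instIsCharPOfIsLeftCancelAddOfCharP in
theorem diag2 (ι : ZMod 2 →+* K') : ∃ P : Matrix.SpecialLinearGroup (Fin 2) K',
    Matrix.SpecialLinearGroup.map ι Cfsg.Agent.H584.Ore.Tab.w = P * _root_.Cfsg.Agent.FixBN.FieldRGD.dd (y : K') y.ne_zero * P⁻¹ := by
  have h2 := F.two
  have hy := F.y2
  have h3 := F.y3
  have hy0 : (y : K') ≠ 0 := y.ne_zero
  have hyi : (y : K')⁻¹ = (y : K') ^ 2 := by
    refine inv_eq_of_mul_eq_one_right ?_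
    linear_combination h3
  let P0 : Matrix (Fin 2) (Fin 2) K' := !![(y : K'), (y : K') ^ 2; 1, 1]
  have hd : P0.det = 1 := by
    rw [Matrix.det_fin_two]
    simp only [P0, Matrix.of_apply, Matrix.cons_val', Matrix.cons_val_zero, Matrix.cons_val_one]
    grobner
  let P : Matrix.SpecialLinearGroup (Fin 2) K' := ⟨P0, hd⟩
  refine ⟨P, eq_mul_inv_iff_mul_eq.2 ?_⟩
  apply Subtype.ext
  have e1 : ((Matrix.SpecialLinearGroup.map ι Cfsg.Agent.H584.Ore.Tab.w : Matrix.SpecialLinearGroup (Fin 2) K') :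
      Matrix (Fin 2) (Fin 2) K') = !![1, 1; 1, 0] := by
    ext i j
    change ι ((!![1, 1; 1, 0] : Matrix (Fin 2) (Fin 2) (ZMod 2)) i j) = _
    (revert i j; simp only [_root_.Fin.forall_fin_succ, _root_.Matrix.of_apply, _root_.Matrix.cons_val', _root_.Matrix.cons_val_fin_one, Fin.isValue, _root_.Matrix.cons_val_zero, _root_.Matrix.cons_val_succ, _root_.forall_const, _root_.map_one, _root_.and_self, _root_.map_zero, _root_.implies_true])
  change ((Matrix.SpecialLinearGroup.map ι Cfsg.Agent.H584.Ore.Tab.w : Matrix.SpecialLinearGroup (Fin 2) K') :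
      Matrix (Fin 2) (Fin 2) K') * P0 = P0 * !![(y : K'), 0; 0, (y : K')⁻¹]
  rw [e1, hyi]
  ext i j
  (revert i j; simp only [P0, Matrix.mul_apply, Fin.sum_univ_two, _root_.Fin.forall_fin_succ, _root_.Matrix.of_apply, _root_.Matrix.cons_val', _root_.Matrix.cons_val_fin_one, Fin.isValue, _root_.Matrix.cons_val_zero, _root_.Matrix.cons_val_one, _root_.mul_one, _root_.MulZeroClass.mul_zero, _root_.add_zero, _root_.Matrix.cons_val_succ, _root_.zero_add, _root_.forall_const, _root_.one_mul, _root_.and_self, _root_.implies_true, _root_.and_true]) <;> (clear * - h2 hy hyi; grind)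

end

/-! ### No fixed points -/

/-- the Chevalley datum `F₄` -/
theorem hpF : IsType chevF4 4 CoxeterMatrix.F₄ := Cfsg.Agent.Nodes.KindF.isType

/-- the nodes but the node 1 -/
def JF : Set (Fin 4) := {k | k ≠ 1}

theorem exists_long (K : Type u) [Field K] : ∃ φ : Matrix.SpecialLinearGroup (Fin 3) K →* ↥(chevF4.group K),
    ∀ a b (hab : a ≠ b) c, φ (Matrix.SpecialLinearGroup.transvection hab c) =
      xc hpF (vec chevF4 4 (rL a b)) (((1 : ℤ) : K) * c) :=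
  Cfsg.Agent.H162.GaussExcMain.exists_hom_D hpF (K := K) (ε := 1) (by norm_num) rtL.1 rtL.2.1 rtL.2.2.1 rtL.2.2.2

theorem exists_short (K : Type u) [Field K] : ∃ φ : Matrix.SpecialLinearGroup (Fin 3) K →* ↥(chevF4.group K),
    ∀ a b (hab : a ≠ b) c, φ (Matrix.SpecialLinearGroup.transvection hab c) =
      xc hpF (vec chevF4 4 (rS a b)) (((1 : ℤ) : K) * c) :=
  Cfsg.Agent.H162.GaussExcMain.exists_hom_D hpF (K := K) (ε := 1) (by norm_num) rtS.1 rtS.2.1 rtS.2.2.1 rtS.2.2.2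

theorem sl0_tv (K : Type u) [Field K] (a b : Fin 2) (hab : a ≠ b) (c : K) :
    sl hpF 0 (Matrix.SpecialLinearGroup.transvection hab c) = xc hpF (vec chevF4 4 (r0 a b)) (((1 : ℤ) : K) * c) :=
  sl_tv hpF 0 (by rw [show ((0 : Fin 4) : ℕ) = 0 from rfl, simples.1]; rfl)
    (by rw [show ((0 : Fin 4) : ℕ) = 0 from rfl, simples.1, simples.2.2.2.2]; rfl) a b hab c

theorem comm_blocks {K : Type u} [Field K] {φ : Matrix.SpecialLinearGroup (Fin 3) K →* ↥(chevF4.group K)}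
    (hφ : ∀ a b (hab : a ≠ b) c, φ (Matrix.SpecialLinearGroup.transvection hab c) =
      xc hpF (vec chevF4 4 (rL a b)) (((1 : ℤ) : K) * c)) (A : Matrix.SpecialLinearGroup (Fin 3) K)
    (B : Matrix.SpecialLinearGroup (Fin 2) K) : Commute (φ A) (sl hpF 0 B) := by
  refine comm_hom φ (sl hpF 0) (fun a b hab c a' b' hab' c' => ?_) A B
  rw [hφ, sl0_tv]
  obtain ⟨h1, h2, h3, h4⟩ := tabC a b hab a' b' hab'
  apply Subtype.ext
  change ((xc hpF _ _ : ↥(chevF4.group K)) : GL chevF4.Idx K) * ((xc hpF _ _ : ↥(chevF4.group K)) : GL chevF4.Idx K) =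
    ((xc hpF _ _ : ↥(chevF4.group K)) : GL chevF4.Idx K) * ((xc hpF _ _ : ↥(chevF4.group K)) : GL chevF4.Idx K)
  rw [coe_xc hpF (rtL.1 a b hab), coe_xc hpF h1]
  exact Cfsg.Agent.TitsThree.KExcBase.comm_nil hpF.inList (rtL.1 a b hab) h1 h2 h3 h4 _ _

/-- **No fixed points.** -/
theorem nf {φ : Matrix.SpecialLinearGroup (Fin 3) (ZMod 2) →* ↥(chevF4.group (ZMod 2))}
    (hφ : ∀ a b (hab : a ≠ b) c, φ (Matrix.SpecialLinearGroup.transvection hab c) =
      xc hpF (vec chevF4 4 (rL a b)) (((1 : ℤ) : ZMod 2) * c)) :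
    NF (VJ CoxeterMatrix.F₄.toCoxeterSystem hpF.isCartan (XX chevF4 4 (ZMod 2)) JF)
        (φ Cfsg.Agent.H584.Ore.Tab.XX0 * sl hpF 0 Cfsg.Agent.H584.Ore.Tab.w) ∧
      NF (VNJ CoxeterMatrix.F₄.toCoxeterSystem hpF.isCartan (XX chevF4 4 (ZMod 2)) JF)
        (φ Cfsg.Agent.H584.Ore.Tab.XX0 * sl hpF 0 Cfsg.Agent.H584.Ore.Tab.w) := by
  obtain ⟨K', _, _, ι, x, y, F⟩ := exists_fld
  obtain ⟨φ', hφ'⟩ := exists_long K'
  obtain ⟨P, hP⟩ := diag3 F ι
  obtain ⟨Q, hQ⟩ := diag2 F ι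
  obtain ⟨p, hpc⟩ := CharP.exists K'
  have : Fact p.Prime := ⟨(CharP.char_is_prime_or_zero K' p).resolve_right (CharP.char_ne_zero_of_finite K' p)⟩
  have := finite_W hpF CoxeterMatrix.F₄.toCoxeterSystem
  have R := rgd (K := K') hpF CoxeterMatrix.F₄.toCoxeterSystem p
  have hcm := comm_blocks hφ'
  -- the torus element
  have hx0 : (x : K') ≠ 0 := x.ne_zero
  have hy0 : (y : K') ≠ 0 := y.ne_zero
  have hpr : ∀ s, ∏ k : Fin 4, (((Pi.mulSingle 0 y : Fin 4 → K'ˣ) k : K'ˣ) : K') ^ chevF4.cartan k s =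
      (y : K') ^ chevF4.cartan 0 s := by
    intro s
    rw [Finset.prod_eq_single (0 : Fin 4)]
    · rw [Pi.mulSingle_eq_same]; rfl
    · intro k _ hk
      rw [Pi.mulSingle_eq_of_ne hk, Units.val_one, _root_.one_zpow]
    · intro hi; exact absurd (Finset.mem_univ _) hi
  have hblk := nf_block hpF (K := K') (ε := 1) (by norm_num) rtL.1 rtL.2.2.2 hφ' (i := 3) (j := 2)
    (by rw [show ((3 : Fin 4) : ℕ) = 3 from rfl, simples.2.2.2.1]; rfl)
    (by rw [show ((2 : Fin 4) : ℕ) = 2 from rfl, simples.2.2.1]; rfl)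
    (J := JF) (fun a b hab k hk => by
      have hk1 : k = 1 := by
        by_contra h
        exact hk h
      rw [hk1]
      exact (tabJ a b hab).1)
    (σ := Pi.mulSingle 0 y) (fun a b hab => by
      rw [hpr, (tabJ a b hab).2, zpow_zero])
    (a := x) (b := x ^ 3) (fun s hs ⟨k, hk, hk0⟩ h => by
      have hk1 : k = 1 := by
        by_contra h
        exact hk h
      rw [hk1] at hk0
      refine tabN s hs hk0 ?_
      rw [hpr] at h
      have e1 : y ^ chevF4.cartan 0 s * x ^ (chevF4.cartan 3 s + 3 * chevF4.cartan 2 s) = 1 := by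
        apply Units.ext
        rw [Units.val_mul, Units.val_zpow_eq_zpow_val, Units.val_zpow_eq_zpow_val, Units.val_one, zpow_add₀ hx0,
          zpow_mul, zpow_ofNat]
        rw [Units.val_pow_eq_pow_val] at h
        exact h
      have h3 : y ^ 3 = 1 := Units.ext (by rw [Units.val_pow_eq_pow_val, F.y3, Units.val_one])
      have e2 : x ^ ((chevF4.cartan 3 s + 3 * chevF4.cartan 2 s) * 3) = 1 := by
        have h4 := congrArg (· ^ (3 : ℤ)) e1
        simp only [mul_zpow, ← zpow_mul, _root_.one_zpow] at h4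
        rw [mul_comm (chevF4.cartan 0 s) 3, zpow_mul, show y ^ (3 : ℤ) = y ^ 3 from zpow_ofNat y 3, h3,
          _root_.one_zpow, one_mul] at h4
        exact h4
      have h7 : (7 : ℤ) ∣ chevF4.cartan 3 s + 3 * chevF4.cartan 2 s := by
        have := F.seven _ e2
        omega
      refine ⟨F.three _ ?_, h7⟩
      have h77 : x ^ 7 = 1 := Units.ext (by rw [Units.val_pow_eq_pow_val, F.x7, Units.val_one])
      obtain ⟨m, hm⟩ := h7
      rw [hm, zpow_mul, show x ^ (7 : ℤ) = x ^ 7 from zpow_ofNat x 7, h77, _root_.one_zpow, mul_one] at e1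
      exact e1)
    hP
  have hc : bc chevF4 ι (φ Cfsg.Agent.H584.Ore.Tab.XX0 * sl hpF 0 Cfsg.Agent.H584.Ore.Tab.w) =
      sl hpF 0 Q * (th hpF (Pi.mulSingle 0 y) * φ' (Matrix.SpecialLinearGroup.map ι Cfsg.Agent.H584.Ore.Tab.XX0)) *
        (sl hpF 0 Q)⁻¹ := by
    rw [map_mul, bc_phi hpF ι rtL.1 hφ hφ', bc_phi hpF ι (fun a b hab => (tabJ' a b hab).1) (sl0_tv (ZMod 2))
      (sl0_tv K'), hQ, map_mul, map_mul, map_inv, th_mulSingle]
    have h1 := hcm (Matrix.SpecialLinearGroup.map ι Cfsg.Agent.H584.Ore.Tab.XX0) (Q * _root_.Cfsg.Agent.FixBN.FieldRGD.dd (y : K') y.ne_zero * Q⁻¹)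
    have h2 := hcm (Matrix.SpecialLinearGroup.map ι Cfsg.Agent.H584.Ore.Tab.XX0) Q⁻¹
    rw [map_mul, map_mul, map_inv] at h1
    rw [map_inv] at h2
    rw [h1.eq]
    generalize φ' (Matrix.SpecialLinearGroup.map ι Cfsg.Agent.H584.Ore.Tab.XX0) = z at h1 h2 ⊢
    calc sl hpF 0 Q * sl hpF 0 (dd (y : K') y.ne_zero) * (sl hpF 0 Q)⁻¹ * z
        = sl hpF 0 Q * sl hpF 0 (dd (y : K') y.ne_zero) * ((sl hpF 0 Q)⁻¹ * z) := by group
      _ = sl hpF 0 Q * sl hpF 0 (dd (y : K') y.ne_zero) * (z * (sl hpF 0 Q)⁻¹) := by rw [h2.eq]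
      _ = _ := by group
  have hQ' : sl hpF 0 Q ∈ LJ CoxeterMatrix.F₄.toCoxeterSystem hpF.isCartan (TT chevF4 K') (XX chevF4 4 K') JF :=
    phi_mem hpF (fun a b hab => (tabJ' a b hab).1) (sl0_tv K') (fun a b hab k hk => by
      have hk1 : k = 1 := by
        by_contra h
        exact hk h
      rw [hk1]
      exact (tabJ' a b hab).2) Q
  constructor
  · refine NF.of_hom (bc chevF4 ι) (bc_injective chevF4 ι) (VJ_le_comap hpF ι JF) ?_
    rw [hc]
    exact NF.conj (LJ_le_normalizer_VJ R JF hQ') hblk.1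
  · refine NF.of_hom (bc chevF4 ι) (bc_injective chevF4 ι) (VNJ_le_comap hpF ι JF) ?_
    rw [hc]
    exact NF.conj (LJ_le_normalizer_VNJ R JF hQ') hblk.2

end Cfsg.Agent.H197.OreF
end

-- part: H537/Ore/FFour
section
/-!
# The blocks of `F₄(2)` for the square theorem with the side condition (S2443, S4171; for helper197)

Nodes of `chevF4`: 0, 1 short, 2, 3 long.

* `tabL`, `tabS` : the tables of the blocks `{2,3}` (long) and `{0,1}` (short);
* `comm_L` : the long block commutes with `sl hp 0`;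
* `abL`, `crdL` : the data of `{0,2,3}` for `Φ (A, B) = φ A * sl hp 0 B`;
* `abS`, `crdS` : the data of `{0,1}` for the short block.
-/

set_option autoImplicit false
set_option maxRecDepth 10000

namespace Cfsg.Agent.H537.Ore

open CoxeterSystem Cfsg Cfsg.Lie Cfsg.Agent.ChevalleyStructure Cfsg.Agent.ChevalleyStructure.CoxeterGeom
  Cfsg.Agent.ChevalleyStructure.Elts
  Cfsg.Agent.ChevalleyStructure.RootVec Cfsg.Agent.ChevalleyStructure.CoxeterGeomTypes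
  Cfsg.Agent.Tits.Roots Cfsg.Agent.Tits.Core
  Cfsg.Agent.Nodes.RGDLib Cfsg.Agent.Nodes.Bruhat Cfsg.Agent.Nodes.OppDec Cfsg.Agent.Nodes.LeviDec
  Cfsg.Agent.Nodes.RGDChev Cfsg.Agent.KFacts.RgdChevCoord
  Cfsg.Agent.Nodes.KindChev Cfsg.Agent.Nodes.ChevCls Cfsg.Agent.OddHalf.NI.ModelChev Cfsg.Agent.OddHalf.NI.Mult
  Cfsg.Agent.H162.GaussSL
  Cfsg.Agent.H584.Ore.Engine Cfsg.Agent.H584.Ore.Par Cfsg.Agent.H584.Ore.Build
open Matrix (SpecialLinearGroup)
open Matrix.SpecialLinearGroup (transvection)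

/-- the long block -/
def rL : Fin 3 → Fin 3 → ℕ := ![![0, 24, 26], ![23, 0, 25], ![21, 22, 0]]

/-- the short block -/
def rS : Fin 3 → Fin 3 → ℕ := ![![0, 27, 34], ![20, 0, 33], ![13, 14, 0]]

theorem chkL : ChkN chevF4 4 [2, 3] 3 rL := by decide +kernel

theorem chkS : ChkN chevF4 4 [0, 1] 3 rS := by decide +kernel

theorem chk0 : ChkN chevF4 4 [0] 2 (nd chevF4 0) := by decide +kernel

theorem orth : Orth chevF4 rL (nd chevF4 0) := by decide +kernel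

theorem split : Split chevF4 4 [0, 2, 3] [2, 3] [0] := by decide +kernel

theorem short12 : rS 1 2 = chevF4.simple 0 := by decide +kernel

theorem short01 : ∃ j : Fin 4, j ≠ 0 ∧ 0 < vec chevF4 4 (rS 0 1) j := by decide +kernel

theorem short02 : ∃ j : Fin 4, j ≠ 0 ∧ 0 < vec chevF4 4 (rS 0 2) j := by decide +kernel

section

universe u

variable {M : CoxeterMatrix (Fin 4)} (hp : IsType chevF4 4 M) {K : Type u} [Field K]

/-- the long block commutes with the node 0 -/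
theorem comm_L {s : Fin 3 → Fin 3 → K} {φ : _root_.Matrix.SpecialLinearGroup (Fin 3) K →* ↥(chevF4.group K)}
    (hφ : ∀ a b (hab : a ≠ b) c, φ (transvection hab c) = xc hp (vec chevF4 4 (rL a b)) (s a b * c)) :
    ∀ x y, Commute (φ x) (sl hp (K := K) (0 : Fin 4) y) :=
  comm_blocks hp chkL.tab.rlt chk0.tab.rlt orth hφ (sl_tv hp 0)

section Long

variable {s : Fin 3 → Fin 3 → K} (hs : ∀ a b, s a b ≠ 0) {φ : _root_.Matrix.SpecialLinearGroup (Fin 3) K →* ↥(chevF4.group K)}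
  (hφ : ∀ a b (hab : a ≠ b) c, φ (transvection hab c) = xc hp (vec chevF4 4 (rL a b)) (s a b * c))
  {Φ : _root_.Matrix.SpecialLinearGroup (Fin 3) K × _root_.Matrix.SpecialLinearGroup (Fin 2) K →* ↥(chevF4.group K)}
  (hΦ : ∀ A B, Φ (A, B) = φ A * sl hp (0 : Fin 4) B)

include hφ hΦ in
theorem eq_coprod : Φ = φ.noncommCoprod (sl hp (0 : Fin 4)) (comm_L hp hφ) := by
  ext1 x
  rw [MonoidHom.noncommCoprod_apply]
  exact hΦ x.1 x.2

include hs hφ hΦ

/-- the data of the nodes 0, 2, 3 -/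
theorem abL {J : Set (Fin 4)} (hJ : ∀ k, k ∈ J ↔ k ≠ 1) :
    AB M.toCoxeterSystem hp.isCartan (TT chevF4 K) (XX chevF4 4 K) J Φ ((UT 3 K).prod (UT 2 K))
      ((LT 3 K).prod (LT 2 K)) := by
  have h1 : J = {k | k ∈ ([0, 2, 3] : List (Fin 4))} := by
    ext k
    rw [hJ]
    change k ≠ 1 ↔ k ∈ ([0, 2, 3] : List (Fin 4))
    revert k
    decide
  rw [h1, eq_coprod hp hφ hΦ]
  refine ab_prod _ (ab_three hp chkL.tab hs hφ) (ab_two hp chk0.tab (fun _ _ => one_ne_zero) (sl_tv hp 0)) ?_ ?_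
    (split.pos hp)
  · intro k hk
    change k ∈ ([0, 2, 3] : List (Fin 4))
    change k ∈ ([2, 3] : List (Fin 4)) at hk
    revert k
    decide
  · intro k hk
    change k ∈ ([0, 2, 3] : List (Fin 4))
    change k ∈ ([0] : List (Fin 4)) at hk
    revert k
    decide

/-- the coordinate of the node 0 -/
theorem crdL : Crd M.toCoxeterSystem hp.isCartan (XX chevF4 4 K) 0 Φ ((UT 3 K).prod (UT 2 K)) ((LT 3 K).prod (LT 2 K))
    (fun A => A.2.1 0 1 = 0) (fun A => A.2.1 1 0 = 0) := by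
  rw [eq_coprod hp hφ hΦ]
  refine crd_inr _ (crd_two hp (fun _ _ => one_ne_zero) (sl_tv hp 0) rfl rfl) (ab_three hp chkL.tab hs hφ) ?_
  change (0 : Fin 4) ∉ ([2, 3] : List (Fin 4))
  decide

end Long

section Short

variable {s : Fin 3 → Fin 3 → K} (hs : ∀ a b, s a b ≠ 0) {φ : _root_.Matrix.SpecialLinearGroup (Fin 3) K →* ↥(chevF4.group K)}
  (hφ : ∀ a b (hab : a ≠ b) c, φ (transvection hab c) = xc hp (vec chevF4 4 (rS a b)) (s a b * c))

include hs hφ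

/-- the data of the nodes 0, 1 -/
theorem abS {J : Set (Fin 4)} (hJ : ∀ k, k ∈ J ↔ k = 0 ∨ k = 1) :
    AB M.toCoxeterSystem hp.isCartan (TT chevF4 K) (XX chevF4 4 K) J φ (UT 3 K) (LT 3 K) := by
  have h1 : J = {k | k ∈ ([0, 1] : List (Fin 4))} := by
    ext k
    rw [hJ]
    change (k = 0 ∨ k = 1) ↔ k ∈ ([0, 1] : List (Fin 4))
    revert k
    decide
  rw [h1]
  exact ab_three hp chkS.tab hs hφ

/-- the coordinate of the node 0 -/
theorem crdS : Crd M.toCoxeterSystem hp.isCartan (XX chevF4 4 K) 0 φ (UT 3 K) (LT 3 K)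
    (fun A => A.1 1 2 = 0) (fun A => A.1 2 1 = 0) :=
  crd_three hp chkS.tab hs hφ short12 short01 short02

end Short

end

/-! ### The forms over the field with two elements -/

section

variable {M : CoxeterMatrix (Fin 4)} (hp : IsType chevF4 4 M)

theorem int_one_ne (a b : Fin 3) : (fun _ _ => (((1 : ℤ) : ZMod 2)) : Fin 3 → Fin 3 → ZMod 2) a b ≠ 0 := by
  rw [Int.cast_one]
  exact one_ne_zero

section

variable {φ : _root_.Matrix.SpecialLinearGroup (Fin 3) (ZMod 2) →* ↥(chevF4.group (ZMod 2))}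
  (hφ : ∀ a b (hab : a ≠ b) c, φ (transvection hab c) = xc hp (vec chevF4 4 (rL a b)) (((1 : ℤ) : ZMod 2) * c))
  {Φ : _root_.Matrix.SpecialLinearGroup (Fin 3) (ZMod 2) × _root_.Matrix.SpecialLinearGroup (Fin 2) (ZMod 2) →* ↥(chevF4.group (ZMod 2))}
  (hΦ : ∀ A B, Φ (A, B) = φ A * sl hp (0 : Fin 4) B)

include hφ hΦ

theorem abL_two {J : Set (Fin 4)} (hJ : ∀ k, k ∈ J ↔ k ≠ 1) :
    AB M.toCoxeterSystem hp.isCartan (TT chevF4 (ZMod 2)) (XX chevF4 4 (ZMod 2)) J Φ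
      ((UT 3 (ZMod 2)).prod (UT 2 (ZMod 2))) ((LT 3 (ZMod 2)).prod (_root_.Cfsg.Agent.H162.GaussSL.LT 2 (ZMod 2))) :=
  abL hp int_one_ne hφ hΦ hJ

theorem crdL_two : Crd M.toCoxeterSystem hp.isCartan (XX chevF4 4 (ZMod 2)) 0 Φ
    ((UT 3 (ZMod 2)).prod (UT 2 (ZMod 2))) ((LT 3 (ZMod 2)).prod (_root_.Cfsg.Agent.H162.GaussSL.LT 2 (ZMod 2)))
    (fun A => A.2.1 0 1 = 0) (fun A => A.2.1 1 0 = 0) :=
  crdL hp int_one_ne hφ hΦ

end

section

variable {φ : _root_.Matrix.SpecialLinearGroup (Fin 3) (ZMod 2) →* ↥(chevF4.group (ZMod 2))}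
  (hφ : ∀ a b (hab : a ≠ b) c, φ (transvection hab c) = xc hp (vec chevF4 4 (rS a b)) (((1 : ℤ) : ZMod 2) * c))

include hφ

theorem abS_two {J : Set (Fin 4)} (hJ : ∀ k, k ∈ J ↔ k = 0 ∨ k = 1) :
    AB M.toCoxeterSystem hp.isCartan (TT chevF4 (ZMod 2)) (XX chevF4 4 (ZMod 2)) J φ (UT 3 (ZMod 2)) (_root_.Cfsg.Agent.H162.GaussSL.LT 3 (ZMod 2)) :=
  abS hp int_one_ne hφ hJ

theorem crdS_two : Crd M.toCoxeterSystem hp.isCartan (XX chevF4 4 (ZMod 2)) 0 φ (UT 3 (ZMod 2)) (_root_.Cfsg.Agent.H162.GaussSL.LT 3 (ZMod 2))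
    (fun A => A.1 1 2 = 0) (fun A => A.1 2 1 = 0) :=
  crdS hp int_one_ne hφ

end

end

end Cfsg.Agent.H537.Ore
end

-- part: H197/OreF/Main
section
/-!
`F₄(2)`: every element is a commutator and a product of four elements of square one (S2443, S4171).
-/

set_option autoImplicit false
set_option linter.unusedSectionVars false

namespace Cfsg.Agent.H197.OreF

open CoxeterSystem Cfsg.Agent.ChevalleyStructure.CoxeterGeom Cfsg.Agent.Tits.Roots Cfsg.Agent.Tits.Core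
  Cfsg.Agent.Nodes.Reps Cfsg.Agent.Nodes.BNOf Cfsg.Agent.Nodes.RGDLib Cfsg.Agent.Nodes.Bruhat
  Cfsg.Agent.Nodes.OppDec Cfsg.Agent.Nodes.LeviDec Cfsg.Agent.Nodes.KindChev Cfsg.Agent.Nodes.ChevCls
  Cfsg.Agent.OddHalf.NI.ModelChev Cfsg.Agent.Nodes.StabComb
  Cfsg.Agent.H162.GaussDec Cfsg.Agent.H162.GaussLevi Cfsg.Agent.H162.GaussSL
  Cfsg.Agent.H928.Ore.Frame
open Cfsg.Lie Cfsg.Agent.ChevalleyStructure Cfsg.Agent.ChevalleyStructure.Elts
  Cfsg.Agent.ChevalleyStructure.RootVec Cfsg.Agent.ChevalleyStructure.NPerm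
  Cfsg.Agent.ChevalleyStructure.CoxeterGeomTypes Cfsg.Agent.Nodes.RGDChev Cfsg.Agent.KFacts.RgdChevCoord
open Cfsg.Agent.H584.Ore

universe u

/-- **The square of one class**: `F₄(2)` -/
theorem square_two : ∃ c z : ↥(chevF4.group (ZMod 2)), z * z = 1 ∧ z * c * z⁻¹ = c⁻¹ ∧
    ∀ g : ↥(chevF4.group (ZMod 2)), ∃ x y : ↥(chevF4.group (ZMod 2)), g = (x * c * x⁻¹) * (y * c * y⁻¹) := by
  have : Fact (Nat.Prime 2) := ⟨Nat.prime_two⟩
  obtain ⟨φ, hφ⟩ := exists_long (ZMod 2)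
  obtain ⟨φS, hφS⟩ := exists_short (ZMod 2)
  have := finite_W hpF CoxeterMatrix.F₄.toCoxeterSystem
  have hcm := comm_blocks hφ
  let Φ : Matrix.SpecialLinearGroup (Fin 3) (ZMod 2) × Matrix.SpecialLinearGroup (Fin 2) (ZMod 2) →*
      ↥(chevF4.group (ZMod 2)) := φ.noncommCoprod (sl hpF 0) hcm
  have hΦ : ∀ A B, Φ (A, B) = φ A * sl hpF 0 B := fun A B => MonoidHom.noncommCoprod_apply _ _ _ _
  obtain ⟨z, hz1, hz2⟩ := Cfsg.Agent.H692.Ore.exists_real hpF rtL.1 rtL.2.2.2 hφ 0 Tab.tr_XX0 Tab.tr_w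
    (hcm Tab.XX0 Tab.w).eq
  obtain ⟨hf1, hf2⟩ := nf hφ
  rw [← hΦ] at hz2 hf1 hf2
  refine ⟨Φ (Tab.XX0, Tab.w), z, hz1, hz2, fun g => ?_⟩
  refine Build.all_of hpF 2 (Cfsg.Agent.S1054.result chevF4 (by simp)) (P := fun g => ∃ x y : ↥(chevF4.group (ZMod 2)),
    g = (x * Φ (Tab.XX0, Tab.w) * x⁻¹) * (y * Φ (Tab.XX0, Tab.w) * y⁻¹)) (fun g hg => ?_) g
  refine Par.square_par (rgd (K := ZMod 2) hpF CoxeterMatrix.F₄.toCoxeterSystem 2) (G1_eq_top hpF _)
    (Cfsg.Agent.H162.GaussExc.coord hpF)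
    (Cfsg.Agent.Nodes.ChevChart.irr_of Cfsg.Agent.Nodes.ChevChart.irrF) (J := JF) (K := {k | k = 0 ∨ k = 1}) (S := {0})
    ?_ ?_ (Cfsg.Agent.H537.Ore.abL_two hpF hφ hΦ (J := JF) fun k => Iff.rfl)
    (Cfsg.Agent.H537.Ore.abS_two hpF hφS (J := {k | k = 0 ∨ k = 1}) fun k => Iff.rfl)
    (ZU := fun _ A => A.2.1 0 1 = 0) (ZL := fun _ A => A.2.1 1 0 = 0) (ZU' := fun _ A => A.1 1 2 = 0)
    (ZL' := fun _ A => A.1 2 1 = 0) ?_ ?_ ?_ (c₀ := (Tab.XX0, Tab.w)) ?_ hf1 hf2 ⟨z, hz2⟩ hg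
  · rintro k rfl
    change (0 : Fin 4) ≠ 1
    decide
  · rintro k rfl
    exact Or.inl rfl
  · rintro k rfl
    exact Cfsg.Agent.H537.Ore.crdL_two hpF hφ hΦ
  · rintro k rfl
    exact Cfsg.Agent.H537.Ore.crdS_two hpF hφS
  · intro v hv u hu
    obtain ⟨y, L', hL', U', hU', e, hpar⟩ := Tab.parity hv hu
    exact ⟨y, L', hL', U', hU', e, fun _ _ => hpar⟩
  · rintro ⟨L, l⟩ hv ⟨U, u⟩ hu hpar
    obtain ⟨hL, hl⟩ := Subgroup.mem_prod.1 hv
    obtain ⟨hU, hu'⟩ := Subgroup.mem_prod.1 hu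
    exact Tab.prod_pair ⟨Tab.sw, Tab.sw_w⟩ hL hU (Tab.prod_three hl hu' (hpar 0 rfl))

/-- **S2443, `F₄(2)`**, over `ZMod 2` -/
theorem allC_two : Cfsg.Agent.H777.Ore.AllC ↥(chevF4.group (ZMod 2)) := by
  obtain ⟨c, z, -, hz, h⟩ := square_two
  intro g
  obtain ⟨x, y, e⟩ := h g
  exact Engine.comm_of e hz

/-- **S4171, `F₄(2)`**, over `ZMod 2` -/
theorem inv4_two : Cfsg.Agent.H777.Ore.Inv4 ↥(chevF4.group (ZMod 2)) := by
  obtain ⟨c, z, hz1, hz, h⟩ := square_two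
  intro g
  obtain ⟨x, y, e⟩ := h g
  have h1 : (z * c) * (z * c) = 1 := by
    have h2 : z⁻¹ = z := inv_eq_of_mul_eq_one_right hz1
    rw [h2] at hz
    calc z * c * (z * c) = (z * c * z) * c := by group
      _ = 1 := by rw [hz, inv_mul_cancel]
  have hcj : ∀ x a : ↥(chevF4.group (ZMod 2)), a * a = 1 → (x * a * x⁻¹) * (x * a * x⁻¹) = 1 := fun x a ha => by
    calc (x * a * x⁻¹) * (x * a * x⁻¹) = x * (a * a) * x⁻¹ := by group
      _ = 1 := by rw [ha, mul_one, mul_inv_cancel]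
  refine ⟨x * z * x⁻¹, x * (z * c) * x⁻¹, y * z * y⁻¹, y * (z * c) * y⁻¹, hcj _ _ hz1, hcj _ _ h1, hcj _ _ hz1,
    hcj _ _ h1, ?_⟩
  have h3 : c = z * (z * c) := by rw [← mul_assoc, hz1, one_mul]
  rw [e]
  calc (x * c * x⁻¹) * (y * c * y⁻¹) = (x * (z * (z * c)) * x⁻¹) * (y * (z * (z * c)) * y⁻¹) := by rw [← h3]
    _ = _ := by group

/-! ### Any field with two elements -/

section

variable {K : Type u} [Field K] [Fintype K]

/-- the isomorphism with the group over `ZMod 2` -/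
theorem exists_equiv_two (hK : Fintype.card K = 2) : Nonempty (↥(chevF4.group (ZMod 2)) ≃* ↥(chevF4.group K)) :=
  ⟨Cfsg.Agent.ChevalleyStructure.FieldIso.groupEquiv chevF4 (ZMod.ringEquivOfPrime K Nat.prime_two hK)⟩

/-- the square of one class -/
theorem square_F4_two (hK : Fintype.card K = 2) : ∃ c z : ↥(chevF4.group K), z * z = 1 ∧ z * c * z⁻¹ = c⁻¹ ∧
    ∀ g : ↥(chevF4.group K), ∃ x y : ↥(chevF4.group K), g = (x * c * x⁻¹) * (y * c * y⁻¹) := by
  obtain ⟨e⟩ := exists_equiv_two hK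
  obtain ⟨c, z, h1, h2, h⟩ := square_two
  refine ⟨e c, e z, ?_, ?_, fun g => ?_⟩
  · have h3 := congrArg e h1
    rw [map_mul, map_one] at h3
    exact h3
  · have h3 := congrArg e h2
    rw [map_mul, map_mul, map_inv, map_inv] at h3
    exact h3
  · obtain ⟨x, y, hxy⟩ := h (e.symm g)
    refine ⟨e x, e y, ?_⟩
    have h3 := congrArg e hxy
    rw [e.apply_symm_apply, map_mul, map_mul, map_mul, map_mul, map_mul, map_inv, map_inv] at h3
    exact h3

/-- **S2443, `F₄(2)`** -/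
theorem allC_F4_two (hK : Fintype.card K = 2) : Cfsg.Agent.H777.Ore.AllC ↥(chevF4.group K) := by
  obtain ⟨e⟩ := exists_equiv_two hK
  intro g
  obtain ⟨a, b, h⟩ := allC_two (e.symm g)
  refine ⟨e a, e b, ?_⟩
  have h3 := congrArg e h
  rw [e.apply_symm_apply, map_mul, map_mul, map_mul, map_inv, map_inv] at h3
  exact h3

/-- **S4171, `F₄(2)`** -/
theorem inv4_F4_two (hK : Fintype.card K = 2) : Cfsg.Agent.H777.Ore.Inv4 ↥(chevF4.group K) := by
  obtain ⟨e⟩ := exists_equiv_two hK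
  intro g
  obtain ⟨a, b, c, d, ha, hb, hc, hd, h⟩ := inv4_two (e.symm g)
  have hs : ∀ a : ↥(chevF4.group (ZMod 2)), a * a = 1 → e a * e a = 1 := fun a ha => by
    have h3 := congrArg e ha
    rw [map_mul, map_one] at h3
    exact h3
  refine ⟨e a, e b, e c, e d, hs a ha, hs b hb, hs c hc, hs d hd, ?_⟩
  have h3 := congrArg e h
  rw [e.apply_symm_apply, map_mul, map_mul, map_mul] at h3
  exact h3

end

end Cfsg.Agent.H197.OreF
end

private theorem dce_c81b5821769a : _root_.True := by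
  try have : _root_.True := by simp only [_root_.Cfsg.Agent.OddHalf.NI.ModelChev.sl.congr_simp]
  try have : _root_.True := by simp only [_root_.Cfsg.Agent.H267.Ore.ESix.jL.eq_1]
  try have : _root_.True := by simp only [_root_.Cfsg.Agent.H584.Ore.Tab.X0.eq_1]
  try have : _root_.True := by simp only [_root_.Cfsg.Agent.FixBN.FieldRGD.dd.congr_simp]
  exact _root_.True.intro
end
end
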